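import Cfsg.Agent.Lib.Lie.Chev.Univ.CenterEmb
import Cfsg.Agent.Lib.Lie.Chev.Univ.Multiplier
import Cfsg.Agent.Lib.Lie.Chev.TorData
import Cfsg.Agent.Lib.Lie.Chev.Tw.E6Simple

/-!
# The triple cover of `²E₆(q)` inside the Steinberg group
-/

set_option autoImplicit false
set_option maxRecDepth 100000
set_option linter.unusedSectionVars false

namespace CfsgLib.Lie.Mult.TE6Cover

open Cfsg.Lie CfsgLib.Lie.Chev
open scoped MatrixGroups
open TE6 (C rt nd twist)

universe u

variable {K : Type u} [Field K] (θ : K ≃+* K)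

/-- the four pairs -/
def pairs : List (Fin chevE6.nroots × Fin chevE6.nroots) :=
  [(rt 56, rt 36), (rt 15, rt 35), (rt 42, rt 37), (rt 29, rt 34)]

/-- the four fixed roots -/
def singles : List (Fin chevE6.nroots) := [rt 46, rt 25, rt 39, rt 32]

/-- the generators of the cover -/
def gens : Set (chevE6.SteinbergGroup K) :=
  {g | (∃ r ∈ singles, ∃ t, θ t = t ∧ g = C.toSt (C.G.xc r t)) ∨
    ∃ p ∈ pairs, ∃ t, g = C.toSt (C.G.xc p.1 t * C.G.xc p.2 (θ t))}

/-- the cover -/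
noncomputable def Gh : Subgroup (chevE6.SteinbergGroup K) := Subgroup.closure (gens θ)

variable {θ} in
theorem orth_xc {r s : Fin chevE6.nroots} (h : C.Orth r s) {a b : Fin chevE6.nroots}
    (ha : a ∈ [r, C.G.negr r]) (hb : b ∈ [s, C.G.negr s]) (t u : K) :
    Commute (C.G.xc a t) (C.G.xc b u) := by
  obtain ⟨h1, h2, h3⟩ := h a ha b hb
  have := C.comm_xc a b h1 h2 t u
  rw [h3, List.map_nil, List.prod_nil, mul_one] at this
  exact (commute_iff_eq _ _).2 (by
    calc C.G.xc a t * C.G.xc b u = C.G.xc a t * ((C.G.xc a t)⁻¹ * C.G.xc b u * C.G.xc a t) := by rw [this]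
      _ = _ := by group)

theorem pair_gen {p : Fin chevE6.nroots × Fin chevE6.nroots} (hp : p ∈ pairs) (t : K) :
    C.toSt (C.G.xc p.1 t * C.G.xc p.2 (θ t)) ∈ Gh θ :=
  Subgroup.subset_closure (Or.inr ⟨p, hp, t, rfl⟩)

theorem pair_facts :
    (C.Orth (C.G.simp' (nd 0)) (C.G.simp' (nd 5)) ∧ (C.G.simp' (nd 0), C.G.simp' (nd 5)) ∈ pairs ∧
      (C.G.negr (C.G.simp' (nd 0)), C.G.negr (C.G.simp' (nd 5))) ∈ pairs) ∧
    (C.Orth (C.G.simp' (nd 2)) (C.G.simp' (nd 4)) ∧ (C.G.simp' (nd 2), C.G.simp' (nd 4)) ∈ pairs ∧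
      (C.G.negr (C.G.simp' (nd 2)), C.G.negr (C.G.simp' (nd 4))) ∈ pairs) := by
  obtain ⟨o1, o2⟩ := TE6.orth_pairs
  obtain ⟨-, -, n3, n4, n5, n6⟩ := TE6.negr_rt
  obtain ⟨s0, -, s2, -, s4, s5⟩ := TE6.simp_rt
  rw [s0, s2, s4, s5, n3, n4, n5, n6]
  exact ⟨⟨o2, by simp [pairs], by simp [pairs]⟩, o1, by simp [pairs], by simp [pairs]⟩

/-- the lifted torus of a pair of nodes lies in the cover -/
theorem torSt_mem (hP : ∀ i, C.HasPair i) {i j : Fin chevE6.rank} (ho : C.Orth (C.G.simp' i) (C.G.simp' j))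
    (hp : (C.G.simp' i, C.G.simp' j) ∈ pairs) (hn : (C.G.negr (C.G.simp' i), C.G.negr (C.G.simp' j)) ∈ pairs)
    (a : Kˣ) : C.torSt hP (Pi.mulSingle i a * Pi.mulSingle j (Units.map θ.toMonoidHom a)) ∈ Gh θ := by
  set r := C.G.simp' i
  set s := C.G.simp' j
  have hn2 : ∀ t : K, C.toSt (C.G.nc i t * C.G.nc j (θ t)) ∈ Gh θ := by
    intro t
    have c : ∀ {a b : Fin chevE6.nroots}, a ∈ [r, C.G.negr r] → b ∈ [s, C.G.negr s] → ∀ x y : K,
        C.G.xc b y * C.G.xc a x = C.G.xc a x * C.G.xc b y := fun ha hb x y => (orth_xc ho ha hb x y).eq.symm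
    have e : C.G.nc i t * C.G.nc j (θ t) = (C.G.xc r t * C.G.xc s (θ t)) *
        (C.G.xc (C.G.negr r) (-t⁻¹) * C.G.xc (C.G.negr s) (θ (-t⁻¹))) * (C.G.xc r t * C.G.xc s (θ t)) := by
      rw [map_neg, map_inv₀]
      show C.G.xc r t * C.G.xc (C.G.negr r) (-t⁻¹) * C.G.xc r t *
        (C.G.xc s (θ t) * C.G.xc (C.G.negr s) (-(θ t)⁻¹) * C.G.xc s (θ t)) = _
      set A := C.G.xc r t
      set B := C.G.xc s (θ t)
      set A' := C.G.xc (C.G.negr r) (-t⁻¹)
      set B' := C.G.xc (C.G.negr s) (-(θ t)⁻¹)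
      have h1 : B * A' = A' * B := c (by simp) (by simp) _ _
      have h2 : B * A = A * B := c (by simp) (by simp) _ _
      have h3 : B' * A = A * B' := c (by simp) (by simp) _ _
      calc A * A' * A * (B * B' * B) = A * A' * (A * B) * B' * B := by group
        _ = A * A' * (B * A) * B' * B := by rw [h2]
        _ = A * (A' * B) * (A * B') * B := by group
        _ = A * (B * A') * (B' * A) * B := by rw [h1, h3]
        _ = _ := by group
    rw [e, map_mul, map_mul]
    exact mul_mem (mul_mem (pair_gen θ hp t) (pair_gen θ hn (-t⁻¹))) (pair_gen θ hp t)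
  rw [map_mul, C.torSt_single, C.torSt_single, ← map_mul]
  have hc : C.G.nc j (θ (a : K)) * C.G.nc i (-1) = C.G.nc i (-1) * C.G.nc j (θ (a : K)) := by
    have h : ∀ {x : Fin chevE6.nroots}, x ∈ [r, C.G.negr r] → ∀ u : K, Commute (C.G.nc j (θ (a : K))) (C.G.xc x u) :=
      fun hx u => Commute.mul_left (Commute.mul_left (orth_xc ho hx (by simp [s]) _ _).symm
        (orth_xc ho hx (by simp [s]) _ _).symm) (orth_xc ho hx (by simp [s]) _ _).symm
    exact (((h (by simp [r]) _).mul_right (h (by simp [r]) _)).mul_right (h (by simp [r]) _)).eq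
  rw [show C.G.hc i (a : K) * C.G.hc j ((Units.map θ.toMonoidHom a : Kˣ) : K) =
    (C.G.nc i (a : K) * C.G.nc j (θ (a : K))) * (C.G.nc i (-1) * C.G.nc j (θ (-1))) by
      rw [map_neg, map_one]
      show C.G.nc i (a : K) * C.G.nc i (-1) * (C.G.nc j (θ (a : K)) * C.G.nc j (-1)) = _
      calc _ = C.G.nc i (a : K) * (C.G.nc i (-1) * C.G.nc j (θ (a : K))) * C.G.nc j (-1) := by group
        _ = _ := by rw [← hc]; group]
  rw [map_mul]
  exact mul_mem (hn2 _) (hn2 _)

variable [Fintype K] {q : ℕ}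

/-- a generator of the centre of the cover -/
theorem exists_kernel (hθ : ∀ x, θ x = x ^ q) (hq3 : q % 3 = 2) (hK : Fintype.card K = q ^ 2) :
    ∃ u : Kˣ, u ≠ 1 ∧ C.G.torθ (TE6.par θ 1 1 (u ^ 2) u) = 1 := by
  haveI : Fact (Nat.Prime 3) := ⟨Nat.prime_three⟩
  obtain ⟨u, hu⟩ := exists_prime_orderOf_dvd_card' (G := Kˣ) 3 (by
    rw [Nat.card_units, Nat.card_eq_fintype_card, hK]
    refine Nat.dvd_of_mod_eq_zero (Nat.sub_mod_eq_zero_of_mod_eq ?_)
    rw [Nat.pow_mod, hq3])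
  have hu3 : u ^ 3 = 1 := hu ▸ pow_orderOf_eq_one u
  refine ⟨u, fun h => by rw [h, orderOf_one] at hu; omega, ?_⟩
  have hθu : ∀ w : Kˣ, w ^ 3 = 1 → Units.map θ.toMonoidHom w = w ^ 2 := fun w hw => Units.ext (by
    show θ (w : K) = ((w ^ 2 : Kˣ) : K)
    rw [hθ, ← Units.val_pow_eq_pow_val]
    congr 1
    rw [← Nat.div_add_mod q 3, hq3, pow_add, pow_mul, hw, one_pow, one_mul])
  obtain ⟨v1, v3, v2, v4, v0, v5⟩ := TE6.par_vals θ (1 : Kˣ) 1 (u ^ 2) u
  have hexp : ∀ i : Fin chevE6.rank,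
      TE6.par θ 1 1 (u ^ 2) u i = u ^ (([1, 0, 2, 0, 1, 2] : List ℤ).getD i.val 0) := by
    intro i
    rcases TE6.nd_cases i with rfl | rfl | rfl | rfl | rfl | rfl
    · rw [v0]; simp [nd]
    · rw [v1]; simp [nd]
    · rw [v2]; simp [nd, zpow_two, pow_two]
    · rw [v3]; simp [nd]
    · rw [v4, hθu (u ^ 2) (by rw [← pow_mul, mul_comm, pow_mul, hu3, one_pow]), ← pow_mul,
        show 2 * 2 = 3 + 1 from rfl, pow_succ, hu3, one_mul]
      simp [nd]
    · rw [v5, hθu u hu3]; simp [nd, zpow_two, pow_two]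
  rw [← MonoidHom.mem_ker, C.G.torθ_ker]
  intro l
  simp only [hexp, ← zpow_mul]
  rw [← prod_zpow_sum]
  have hdvd : ∀ l : Fin chevE6.rank, (∑ i : Fin chevE6.rank,
      ([1, 0, 2, 0, 1, 2] : List ℤ).getD i.val 0 * cmat chevE6 i l) % 3 = 0 := by decide +kernel
  obtain ⟨k, hk⟩ := Int.dvd_of_emod_eq_zero (hdvd l)
  rw [hk, zpow_mul, show (3 : ℤ) = ((3 : ℕ) : ℤ) from rfl, zpow_natCast, hu3, one_zpow]

/-- a stem extension with kernel of order three -/
theorem exists_cover (hθ : ∀ x, θ x = x ^ q) (h2 : ∀ t : K, θ (θ t) = t) (hq : IsPrimePow q)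
    (hK : Fintype.card K = q ^ 2) (hq3 : q % 3 = 2) :
    ∃ (Γ : Type u) (_ : Group Γ) (_ : Finite Γ) (σ : Γ →* ↥(twistedE6 K q)),
      Cfsg.IsStemExtension σ ∧ Nat.card σ.ker = 3 := by
  classical
  have hP := hasPair_tab (D := chevE6) (by simp) C
  haveI := Univ.steinbergGroup_finite C (K := K) hP
  have hth : ∀ (r : Fin chevE6.nroots) (t : K), C.thetaSt (C.toSt (C.G.xc r t)) = C.G.xu r t := fun r t => by
    rw [C.thetaSt_toSt, C.theta_xc]
  have hle : ∀ g ∈ Gh θ, C.thetaSt g ∈ twistedE6 K q := by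
    intro g hg
    induction hg using Subgroup.closure_induction with
    | one => rw [map_one]; exact one_mem _
    | mul a b _ _ ha hb => rw [map_mul]; exact mul_mem ha hb
    | inv a _ ha => rw [map_inv]; exact inv_mem ha
    | mem g hg =>
      rcases hg with ⟨r, hr, t, ht, rfl⟩ | ⟨p, hp, t, rfl⟩
      · obtain ⟨m1, m2, m3, m4⟩ := TE6.single_mem θ hθ ht
        rw [hth]
        simp only [singles, List.mem_cons, List.not_mem_nil, or_false] at hr
        rcases hr with rfl | rfl | rfl | rfl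
        exacts [m1, m2, m3, m4]
      · obtain ⟨m1, m2, m3, m4⟩ := TE6.pair_mem θ hθ t
        rw [map_mul, map_mul, hth, hth]
        simp only [pairs, List.mem_cons, List.not_mem_nil, or_false] at hp
        rcases hp with rfl | rfl | rfl | rfl
        exacts [m3, m4, m1, m2]
  let σ : ↥(Gh θ (K := K)) →* ↥(twistedE6 K q) :=
    ((C.thetaSt (K := K)).comp (Gh θ).subtype).codRestrict _ fun g => hle g g.2
  have hsurj : Function.Surjective σ := by
    have h : twistedE6 K q ≤ (Gh θ).map (C.thetaSt (K := K)) := by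
      refine C.G.gen_le fun w hw => ?_
      rcases hw with ⟨t, ht, r, hr, rfl⟩ | ⟨t, rs, hrs, rfl⟩
      · have hd : ∀ r ∈ [e6p2, e6m2, e6p4, e6m4], ∃ r' ∈ singles, r'.val = r := by decide +kernel
        obtain ⟨r', hr', rfl⟩ := hd r hr
        exact ⟨[(r', t)], rfl, _, Subgroup.subset_closure (Or.inl ⟨r', hr', t, (hθ t).trans ht, rfl⟩),
          by simp [hth]⟩
      · have hd : ∀ rs ∈ [(e6p1, e6p6), (e6m1, e6m6), (e6p3, e6p5), (e6m3, e6m5)],
            ∃ p ∈ pairs, p.1.val = rs.1 ∧ p.2.val = rs.2 := by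
          intro rs hrs
          simp only [List.mem_cons, List.not_mem_nil, or_false] at hrs
          rcases hrs with rfl | rfl | rfl | rfl
          · exact ⟨(rt 56, rt 36), by simp [pairs], by decide +kernel⟩
          · exact ⟨(rt 15, rt 35), by simp [pairs], by decide +kernel⟩
          · exact ⟨(rt 42, rt 37), by simp [pairs], by decide +kernel⟩
          · exact ⟨(rt 29, rt 34), by simp [pairs], by decide +kernel⟩
        obtain ⟨p, hp, e1, e2⟩ := hd rs hrs
        exact ⟨[(p.1, t), (p.2, θ t)], by simp [hθ, e1, e2], _, pair_gen θ hp t, by simp [map_mul, hth]⟩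
    intro g
    obtain ⟨x, hx, e⟩ := h g.2
    exact ⟨⟨x, hx⟩, Subtype.ext e⟩
  let C8 : Full chevE8 := fullOf (by simp)
  obtain ⟨-, hcard⟩ := Univ.torθ_ker_cyclic C (K := K) kerE6 kerE6_ok rfl
  have hinj : Function.Injective (C.torSt (K := K) hP) :=
    Univ.torSt_injective_of_emb C C8 Univ.embE6_ok hP (C8.G.torθ_ker_eq_bot _ kerE8_ok rfl)
  have hk3 : Nat.card (C.thetaSt (K := K)).ker = 3 := by
    rw [C.kerSt_eq hP, ← Nat.card_congr (Subgroup.equivMapOfInjective _ _ hinj).toEquiv, hcard, hK]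
    refine Nat.gcd_eq_left (Nat.dvd_of_mod_eq_zero (Nat.sub_mod_eq_zero_of_mod_eq ?_))
    show q ^ 2 % 3 = 1 % 3
    rw [Nat.pow_mod, hq3]
  have hsub : (C.thetaSt (K := K)).ker ≤ Gh θ := by
    obtain ⟨u, hu, hz⟩ := exists_kernel θ hθ hq3 hK
    set z := C.torSt hP (TE6.par θ 1 1 (u ^ 2) u) with hzdef
    have hzk : z ∈ (C.thetaSt (K := K)).ker := by
      rw [C.kerSt_eq hP]; exact ⟨_, hz, rfl⟩
    have hz1 : z ≠ 1 := fun e => hu (by
      have := congrFun (hinj (e.trans (map_one _).symm)) (nd 0)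
      rwa [(TE6.par_vals θ (1 : Kˣ) 1 (u ^ 2) u).2.2.2.2.1] at this)
    have hzG : z ∈ Gh θ := by
      obtain ⟨⟨o0, p0, n0⟩, o2, p2, n2⟩ := pair_facts
      have e : TE6.par θ 1 1 (u ^ 2) u = (Pi.mulSingle (nd 2) (u ^ 2) *
          Pi.mulSingle (nd 4) (Units.map θ.toMonoidHom (u ^ 2))) *
          (Pi.mulSingle (nd 0) u * Pi.mulSingle (nd 5) (Units.map θ.toMonoidHom u)) := by
        funext i
        obtain ⟨v1, v3, v2, v4, v0, v5⟩ := TE6.par_vals θ (1 : Kˣ) 1 (u ^ 2) u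
        rcases TE6.nd_cases i with rfl | rfl | rfl | rfl | rfl | rfl <;>
          simp only [v0, v1, v2, v3, v4, v5, Pi.mul_apply] <;> simp [Pi.mulSingle_apply, nd, Fin.ext_iff]
      rw [hzdef, e, map_mul]
      exact mul_mem (torSt_mem θ hP o2 p2 n2 _) (torSt_mem θ hP o0 p0 n0 _)
    intro x hx
    haveI : Fact (Nat.Prime 3) := ⟨Nat.prime_three⟩
    have := zpowers_eq_top_of_prime_card (G := ↥(C.thetaSt (K := K)).ker) hk3
      (g := ⟨z, hzk⟩) fun e => hz1 (congrArg Subtype.val e)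
    obtain ⟨n, hn⟩ := Subgroup.mem_zpowers_iff.1 (this.ge (Subgroup.mem_top ⟨x, hx⟩))
    rw [show x = z ^ n from (congrArg Subtype.val hn).symm]
    exact zpow_mem hzG n
  have hker : σ.ker = (C.thetaSt (K := K)).ker.subgroupOf (Gh θ) := by
    ext x
    simp only [MonoidHom.mem_ker, Subgroup.mem_subgroupOf, σ]
    exact ⟨fun e => congrArg Subtype.val e, fun e => Subtype.ext e⟩
  have hσc : σ.ker ≤ Subgroup.center _ := by
    intro x hx
    rw [hker, Subgroup.mem_subgroupOf, C.kerSt_eq_center hP, Subgroup.mem_center_iff] at hx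
    exact Subgroup.mem_center_iff.2 fun y => Subtype.ext (hx y)
  have hk : Nat.card σ.ker = 3 := by
    rw [hker, Nat.card_congr (Subgroup.subgroupOfEquivOfLe hsub).toEquiv, hk3]
  refine ⟨↥(Gh θ (K := K)), inferInstance, inferInstance, σ, ⟨hsurj, hσc, ?_⟩, hk⟩
  -- the cover is perfect: its generators have order prime to three
  obtain ⟨hperf, -, -, -⟩ := TE6.summary2 hq hK
  have hcube : ∀ g, g ^ 3 ∈ commutator ↥(Gh θ (K := K)) := by
    intro g
    have : σ g ∈ (commutator ↥(Gh θ (K := K))).map σ := by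
      rw [commutator_def, Subgroup.map_commutator, Subgroup.map_top_of_surjective _ hsurj, ← commutator_def,
        hperf]
      exact Subgroup.mem_top _
    obtain ⟨c, hc, e⟩ := this
    have hck : c⁻¹ * g ∈ σ.ker := by rw [MonoidHom.mem_ker, map_mul, map_inv, e, inv_mul_cancel]
    have h3 : (c⁻¹ * g) ^ 3 = 1 := by
      rw [← hk]
      exact congrArg Subtype.val (pow_card_eq_one' (G := σ.ker) (x := ⟨_, hck⟩))
    have hcomm : Commute c (c⁻¹ * g) := (Subgroup.mem_center_iff.1 (hσc hck) c : c * _ = _ * c)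
    rw [show g = c * (c⁻¹ * g) by group, hcomm.mul_pow, h3, mul_one]
    exact pow_mem hc 3
  have := ringChar.charP K
  have hpr : (ringChar K).Prime := CharP.char_is_prime K _
  have hp3 : ringChar K ≠ 3 := by
    intro e
    have h1 : ringChar K ∣ Fintype.card K := (ringChar.spec K _).1 (FiniteField.cast_card_eq_zero K)
    rw [hK, e] at h1
    have := Nat.mod_eq_zero_of_dvd (Nat.prime_three.dvd_of_dvd_pow h1)
    omega
  have hxp : ∀ (r : Fin chevE6.nroots) (t : K), C.G.xc r t ^ ringChar K = 1 := by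
    intro r t
    have hpow : ∀ n : ℕ, C.G.xc r t ^ n = C.G.xc r ((n : K) * t) := by
      intro n
      induction n with
      | zero => rw [pow_zero, Nat.cast_zero, zero_mul, C.G.xc_zero]
      | succ n ih => rw [pow_succ, ih, ← C.G.xc_add, Nat.cast_succ, add_mul, one_mul]
    rw [hpow, CharP.cast_eq_zero, zero_mul, C.G.xc_zero]
  suffices h : ∀ g, g ∈ commutator ↥(Gh θ (K := K)) from fun g _ => h g
  intro g
  have hgen : ∀ x (hx : x ∈ gens θ), (⟨x, Subgroup.subset_closure hx⟩ : ↥(Gh θ (K := K))) ∈ commutator _ := by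
    intro x hx
    have hp : x ^ ringChar K = 1 := by
      rcases hx with ⟨r, -, t, -, rfl⟩ | ⟨p, hp, t, rfl⟩
      · rw [← map_pow, hxp, map_one]
      · have hc : Commute (C.G.xc p.1 t) (C.G.xc p.2 (θ t)) := by
          obtain ⟨⟨o0, -, -⟩, o2, -, -⟩ := pair_facts
          obtain ⟨-, -, n3, n4, n5, n6⟩ := TE6.negr_rt
          obtain ⟨s0, -, s2, -, s4, s5⟩ := TE6.simp_rt
          rw [s0, s5] at o0
          rw [s2, s4] at o2
          simp only [pairs, List.mem_cons, List.not_mem_nil, or_false] at hp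
          rcases hp with rfl | rfl | rfl | rfl
          · exact orth_xc o0 (by simp) (by simp) _ _
          · exact orth_xc o0 (by simp [n5]) (by simp [n6]) _ _
          · exact orth_xc o2 (by simp) (by simp) _ _
          · exact orth_xc o2 (by simp [n3]) (by simp [n4]) _ _
        rw [← map_pow, hc.mul_pow, hxp, hxp, one_mul, map_one]
    set y : ↥(Gh θ (K := K)) := ⟨x, Subgroup.subset_closure hx⟩
    have hyp : y ^ ringChar K = 1 := Subtype.ext hp
    have hg : Nat.gcd 3 (ringChar K) = 1 := (Nat.coprime_primes Nat.prime_three hpr).2 (Ne.symm hp3)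
    have e := Nat.gcd_eq_gcd_ab 3 (ringChar K)
    rw [hg] at e
    have : y = (y ^ (3 : ℤ)) ^ Nat.gcdA 3 (ringChar K) := by
      conv_lhs => rw [← zpow_one y, show (1 : ℤ) = ((1 : ℕ) : ℤ) from rfl, e, zpow_add, zpow_mul, zpow_mul,
        zpow_natCast y (ringChar K), hyp, one_zpow, mul_one]
      rfl
    rw [this]
    exact zpow_mem (by exact_mod_cast hcube y) _
  obtain ⟨g, hg⟩ := g
  induction hg using Subgroup.closure_induction with
  | mem x hx => exact hgen x hx
  | one => exact one_mem _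
  | mul a b ha hb iha ihb => exact mul_mem iha ihb
  | inv a ha iha => exact inv_mem (iha)

end CfsgLib.Lie.Mult.TE6Cover
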