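import Cfsg.Agent.Lib.Lie.Mult.TE6.Layers
import Cfsg.Agent.Lib.Lie.Mult.Sylow
import Cfsg.Agent.Lib.Lie.Chev.Tw.E6Gp

/-!
# The multiplier of `²E₆(q)` at the defining prime

Orbit root groups of independent weights do not pair.  A pair orbit carries all scalars and does not pair
with itself; a long root group consists of commutators of two others that commute with it in the extension.
-/

set_option autoImplicit false
set_option maxRecDepth 100000
set_option maxHeartbeats 1000000
set_option linter.unusedSectionVars false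

namespace CfsgLib.Lie.Mult.TE6Def

open Cfsg.Lie CfsgLib.Lie.Chev TE6Tor TE6Lay
open scoped MatrixGroups commutatorElement
open TE6 (C rt nd twist orbits)
open TwSub (orbX sgI)
open TwSub.E6 (pf ef hpf hef)

/-- a long root as a sum of two others -/
def tri : List (Fin chevE6.nroots × Fin chevE6.nroots × Fin chevE6.nroots) :=
  [(rt 39, rt 70, rt 2), (rt 46, rt 71, rt 1), (rt 47, rt 39, rt 46), (rt 44, rt 70, rt 6), (rt 51, rt 44, rt 46),
    (rt 53, rt 39, rt 51), (rt 60, rt 70, rt 18), (rt 63, rt 46, rt 60), (rt 65, rt 39, rt 63), (rt 69, rt 44, rt 63),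
    (rt 70, rt 39, rt 69), (rt 71, rt 46, rt 70)]

/-- a root fixed by the twist that commutes with the first one and is moved by an element fixing it -/
def Part (r a : Fin chevE6.nroots) : Prop :=
  pf a = a ∧ ef a = false ∧ a ≠ r ∧ a.val ≠ chevE6.neg r.val ∧ chevE6.commTerms r.val a.val = [] ∧
    (vecs.any fun v => decide (chr v r = (0, 0)) && good (chr v a)) = true

/-- the conditions on a triple -/
def TriOK (x : Fin chevE6.nroots × Fin chevE6.nroots × Fin chevE6.nroots) : Prop :=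
  (pf x.1 = x.1 ∧ ef x.1 = false) ∧ Part x.1 x.2.1 ∧ Part x.1 x.2.2 ∧
    x.2.2 ≠ x.2.1 ∧ x.2.2.val ≠ chevE6.neg x.2.1.val ∧
    ∃ M ∈ [(1 : ℤ), -1], chevE6.commTerms x.2.1.val x.2.2.val = [(x.1.val, M, 1, 1)]

noncomputable instance : DecidablePred TriOK := fun x => by unfold TriOK Part; infer_instance

theorem tri_chk : (tri.all fun x => decide (TriOK x)) = true := by decide +kernel

theorem tri_ok (x : Fin chevE6.nroots × Fin chevE6.nroots × Fin chevE6.nroots) (hx : x ∈ tri) : TriOK x :=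
  of_decide_eq_true (List.all_eq_true.1 tri_chk x hx)

theorem tri_cover : ∀ a < 24, pf (rep a) = rep a → ∃ x ∈ tri, x.1 = rep a ∧ orb a = [rep a] := by decide +kernel

variable {K : Type*} [Field K] [Fintype K] (θ : K ≃+* K) (h2 : ∀ t : K, θ (θ t) = t) {q : ℕ}
  (hθ : ∀ x, θ x = x ^ q) (hK : Fintype.card K = q ^ 2) (h3 : 3 ≤ q)
  {Γ : Subgroup (GL chevE6.Idx K)} (hP : TwGp (orbits θ) Γ)
  {Pr : Type*} [Group Pr] {p : Pr →* ↥Γ} (hc : p.ker ≤ Subgroup.center Pr) {L : ↥Γ → Pr}
  (hL : ∀ g, p (L g) = g)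
include h2 hθ hK h3 hP

/-- a root element over the fixed field -/
theorem single {a : Fin chevE6.nroots} (ha : pf a = a) (he : ef a = false) {t : K} (ht : θ t = t) :
    C.G.xu a t ∈ Γ := by
  rw [hP.eq_Fix]
  have h := (twist θ).mem_Fix_list [(a, t)] (by simp [hpf, ha, hef, he, sgI, TE6.σ_eq, ht])
  simpa using h

include hc hL

/-- lifts of a root element and of a commuting fixed root group commute -/
theorem commute_part {r a : Fin chevE6.nroots} (hr : pf r = r ∧ ef r = false) (hp : Part r a) {g : ↥Γ} {t : K}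
    (eg : (g : GL chevE6.Idx K) = C.G.xu r t) {h : ↥Γ} {x : K} (hx : θ x = x)
    (eh : (h : GL chevE6.Idx K) = C.G.xu a x) : Commute (L g) (L h) := by
  obtain ⟨ha, he, hne, hnn, hterm, hv⟩ := hp
  simp only [List.any_eq_true, Bool.and_eq_true, decide_eq_true_eq] at hv
  obtain ⟨v, hv, hv0, hvg⟩ := hv
  obtain ⟨u, hu⟩ := exists_mon_ne θ hθ hK h3 hvg
  obtain ⟨T, -, eT⟩ := exists_tor θ h2 hP hv u
  set F0 := θ.toRingHom.eqLocusField (RingHom.id K)
  let b : ↥F0 → ↥Γ := fun y => ⟨C.G.xu a y, single θ h2 hθ hK h3 hP ha he y.2⟩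
  have hsym : θ ((mon θ (chr v a) u : Kˣ) : K) = (mon θ (chr v a) u : Kˣ) := by
    have e := chr_swap v hv a (Or.inr ha)
    rw [ha] at e
    rw [θ_mon θ h2, ← e]
  have hcm : ∀ y : K, C.G.xu r t * C.G.xu a y = C.G.xu a y * C.G.xu r t := by
    intro y
    have hcm := C.commAt r a hne (fun e => hnn ((congrArg Fin.val e).trans (C.G.negr_val r))) t y
    unfold CommAt cwR at hcm
    rw [hterm, List.map_nil, wordR_nil, mul_one] at hcm
    exact (Units.ext hcm : C.G.xu a y * C.G.xu r t = C.G.xu r t * C.G.xu a y).symm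
  have := Ladder.commute_of_scaled hc hL (g := g) (h := T) (b := b) (l := ⟨_, hsym⟩)
    (fun y z => Subtype.ext (show C.G.xu a (((y + z : ↥F0)) : K) = C.G.xu a (y : K) * C.G.xu a (z : K) from C.G.xu_add a _ _))
    (fun y => Subtype.ext (by simp only [Subgroup.coe_mul, eg, b, hcm]))
    (mul_inv_eq_iff_eq_mul.1 (Subtype.ext (by
      simp only [Subgroup.coe_mul, Subgroup.coe_inv, eT, eg, tor_xu, hv0]
      rw [show mon θ ((0 : ℤ), (0 : ℤ)) u = 1 from mon_zero θ u, Units.val_one, one_mul])))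
    (fun e => hu (Units.ext (congrArg Subtype.val e)))
    (fun y => Subtype.ext (by simp only [Subgroup.coe_mul, Subgroup.coe_inv, eT, b, tor_xu]; rfl))
    ⟨x, hx⟩
  rwa [show h = b ⟨x, hx⟩ from Subtype.ext eh]

/-- a long root group does not pair with itself -/
theorem long_commute {a : ℕ} (ha : a < 24) (hlong : pf (rep a) = rep a) {g v : ↥Γ}
    (hg : g ∈ layer θ a) (hv : v ∈ layer θ a) : Commute (L g) (L v) := by
  obtain ⟨x, hx, hxr, horb⟩ := tri_cover a ha hlong
  obtain ⟨hr, hA, hB, hne, hnn, M, hM, hterm⟩ := tri_ok x hx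
  obtain ⟨r, A, B⟩ := x
  simp only at hxr hr hA hB hne hnn hterm
  subst hxr
  have hval : ∀ w ∈ layer θ (Γ := Γ) a, ∃ t, θ t = t ∧ (w : GL chevE6.Idx K) = C.G.xu (rep a) t := by
    rintro w ⟨c, hc', e⟩
    refine ⟨c (rep a), ?_, by rw [e, horb]; simp [orbX]⟩
    have := hc' (rep a) (by rw [horb]; simp)
    rw [hpf, hr.1, hef, hr.2] at this
    simpa [sgI] using this.symm
  obtain ⟨t, -, eg⟩ := hval g hg
  obtain ⟨y, hy, ev⟩ := hval v hv
  set s : K := -(M : K) * y with hs
  have hMM : (M : K) * (M : K) = 1 := by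
    simp only [List.mem_cons, List.not_mem_nil, or_false] at hM
    rcases hM with rfl | rfl <;> simp
  have hsfix : θ s = s := by rw [hs, map_mul, map_neg, map_intCast, hy]
  have h1fix : θ (-1 : K) = -1 := by rw [map_neg, map_one]
  have hnfix : θ (-s) = -s := by rw [map_neg, hsfix]
  let eA : ↥Γ := ⟨C.G.xu A (-s), single θ h2 hθ hK h3 hP hA.1 hA.2.1 hnfix⟩
  let eB : ↥Γ := ⟨C.G.xu B (-1), single θ h2 hθ hK h3 hP hB.1 hB.2.1 h1fix⟩
  have key : v = ⁅eB, eA⁆ := by
    refine Subtype.ext ?_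
    have hcm := C.commAt A B hne (fun e => hnn ((congrArg Fin.val e).trans (C.G.negr_val A))) s (1 : K)
    unfold CommAt cwR at hcm
    rw [hterm] at hcm
    have hcm' : C.G.xu B 1 * C.G.xu A s = C.G.xu A s * C.G.xu B 1 * C.G.xu (rep a) ((M : K) * -s) := by
      apply Units.ext
      simp only [Units.val_mul, Good.coe_xu, hcm, List.map_cons, List.map_nil, wordR_cons, wordR_nil, pow_one,
        mul_one, xN, dif_pos (rep a).isLt, Fin.eta]
    rw [ev, commutatorElement_def]
    simp only [Subgroup.coe_mul, Subgroup.coe_inv, eA, eB, ← C.G.xu_inv, inv_inv]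
    rw [mul_assoc _ (C.G.xu B 1), hcm', show (C.G.xu B (1 : K))⁻¹ * (C.G.xu A s)⁻¹ *
      (C.G.xu A s * C.G.xu B 1 * C.G.xu (rep a) ((M : K) * -s)) = C.G.xu (rep a) ((M : K) * -s) by group]
    congr 1
    rw [hs]; linear_combination -y * hMM
  have cA := commute_part θ h2 hθ hK h3 hP hc hL hr hA eg (h := eA) hnfix rfl
  have cB := commute_part θ h2 hθ hK h3 hP hc hL hr hB eg (h := eB) h1fix rfl
  have hcom : Commute (L g) ⁅L eB, L eA⁆ := by
    rw [commutatorElement_def]
    exact ((cB.mul_right cA).mul_right cB.inv_right).mul_right cA.inv_right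
  exact SLUniv.commute_congr hc rfl (by rw [map_commutatorElement, hL, hL, hL, key]) hcom

variable [Finite Pr] (hq : IsPrimePow q)
include hq

theorem crux {k : ℕ} (hk : k < 24) (S : Ladder.Lift p (layer θ) 24 (tors θ (Γ := Γ)) (k + 1)) {i : ℕ} (hik : i ≤ k)
    {g : ↥Γ} (hg : g ∈ layer θ i) {v : ↥Γ} (hv : v ∈ layer θ k) : ⁅L g, L v⁆ ∈ S.N := by
  have D := layers θ h2 hP (Γ := Γ)
  rcases eq_or_lt_of_le hik with rfl | hlt
  · obtain ⟨-, -, hpos, hrep, hprep, hpp, hee⟩ := orb_ok i hk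
    by_cases hlong : pf (rep i) = rep i
    · rw [commutatorElement_eq_one_iff_commute.2 (long_commute θ h2 hθ hK h3 hP hc hL hk hlong hg hv)]
      exact one_mem _
    set r := rep i with hr
    let cs : K → Fin chevE6.nroots → K := fun t s => if s = r then t else (twist θ).eps r * θ t
    have hok : ∀ t, Okc θ (orb i) (cs t) := by
      intro t s hs
      rcases (hpos s hs).2.2 with rfl | rfl
      · simp only [cs, hpf, ← hr, if_neg hlong, if_true]
      · simp only [cs, hpf, ← hr, hpp, if_neg hlong, if_true]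
        rw [hef, hef, hee, map_mul, map_intCast, h2, ← mul_assoc, ← Int.cast_mul]
        cases ef r <;> simp [sgI]
    have hex : ∀ t, ∃ e ∈ layer θ (Γ := Γ) i, (e : GL chevE6.Idx K) = orbX C.G (orb i) (cs t) :=
      fun t => exists_elem θ hP hk (hok t)
    choose f hf hfe using hex
    have hall : ∀ w ∈ layer θ (Γ := Γ) i, ∃ t, w = f t := by
      rintro w ⟨c, hc', e⟩
      refine ⟨c r, Subtype.ext ?_⟩
      rw [e, hfe]
      refine orbX_congr fun s hs => ?_
      rcases (hpos s hs).2.2 with rfl | rfl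
      · simp [cs, hr]
      · simp only [cs, ← hr, if_neg hlong]
        rw [← hpf θ, hc' r hrep]
    obtain ⟨t, rfl⟩ := hall g hg
    obtain ⟨u, rfl⟩ := hall v hv
    refine Ladder.crux_self S hc D hL (K := K) (by rw [hK]; nlinarith) (f := f)
      (fun x => Ladder.mem_tail le_rfl hk (hf x)) (fun x y => ?_) (fun c hc' => ?_) t u
    · rw [show (f (x + y))⁻¹ * (f x * f y) = 1 from inv_mul_eq_one.2 (Subtype.ext (by
        rw [Subgroup.coe_mul, hfe, hfe, hfe, orbX_mul hk]
        refine orbX_congr fun s _ => ?_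
        simp only [cs, Pi.add_apply]; split <;> simp [mul_add]))]
      exact one_mem _
    · obtain ⟨w, hw, -, hw'⟩ := scal_ok i hk
      have hone := hw'.resolve_left hlong
      obtain ⟨z, hz⟩ : ∃ z : Kˣ, ((mon θ (chr w r) z : Kˣ) : K) = c := by
        rcases hone with e | e <;> rw [e]
        · exact ⟨Units.mk0 c hc', by simp [mon]⟩
        · exact ⟨Units.map θ.toMonoidHom (Units.mk0 c hc'), by simp [mon, h2]⟩
      obtain ⟨T, hT, eT⟩ := exists_tor θ h2 hP hw z
      refine ⟨T, hT, fun x => ?_⟩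
      rw [show (f (c * x))⁻¹ * (T * f x * T⁻¹) = 1 from inv_mul_eq_one.2 (Subtype.ext (by
        rw [Subgroup.coe_mul, Subgroup.coe_mul, Subgroup.coe_inv, eT, hfe, hfe, orbX_tor]
        refine orbX_congr fun s hs => ?_
        rcases (hpos s hs).2.2 with rfl | rfl
        · simp only [cs, ← hr, if_true, hz]
        · simp only [cs, ← hr, if_neg hlong]
          rw [← hpf θ, ← chr_p θ h2 hP hw hk hrep, hz, map_mul]
          ring))]
      exact one_mem _
  · have hi : i < 24 := hlt.trans hk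
    have hv' := pair_ok k hk i hlt
    simp only [List.any_eq_true, Bool.and_eq_true, decide_eq_true_eq] at hv'
    obtain ⟨w, hw, hw0, hwg⟩ := hv'
    obtain ⟨u, hu⟩ := exists_mon_ne θ hθ hK h3 hwg
    obtain ⟨T, hT, eT⟩ := exists_tor θ h2 hP hw u
    refine Ladder.crux_fix S hc D hL (Ladder.mem_tail (Nat.zero_le i) hi hg) hT ?_ hk
      (moves θ h2 hP hk hw eT hu) v hv
    obtain ⟨c, -, e⟩ := hg
    refine mul_inv_eq_iff_eq_mul.1 (Subtype.ext ?_)
    rw [Subgroup.coe_mul, Subgroup.coe_mul, Subgroup.coe_inv, eT, e, orbX_tor]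
    refine orbX_congr fun s hs => ?_
    have h0 : chr w s = (0, 0) := by
      obtain ⟨-, -, hpos, hrep, -⟩ := orb_ok i hi
      rcases (hpos s hs).2.2 with rfl | rfl
      · exact hw0
      · rw [chr_swap w hw _ (Or.inl (hpos _ hrep).1), hw0]; rfl
    rw [h0, show mon θ ((0 : ℤ), (0 : ℤ)) u = 1 from mon_zero θ u, Units.val_one, one_mul]

theorem inter {z : Pr} (hz : z ∈ p.ker)
    (hz' : z ∈ ⁅(Ladder.tail (layer θ) 24 0).comap p, (Ladder.tail (layer θ) 24 0).comap p⁆) : z = 1 := by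
  refine Ladder.inter hc (layers θ h2 hP) hL (fun k hk => ?_)
    (fun k hk S i hik g hg v hv => crux θ h2 hθ hK h3 hP hc hL hq hk S hik hg hv) hz hz'
  obtain ⟨w, hw, hwg, -⟩ := scal_ok k hk
  obtain ⟨u, hu⟩ := exists_mon_ne θ hθ hK h3 hwg
  obtain ⟨T, hT, eT⟩ := exists_tor θ h2 hP hw u
  exact ⟨T, hT, moves θ h2 hP hk hw eT hu⟩

omit [Finite Pr] hL hc hP

/-- the kernel of a stem extension is prime to the characteristic -/
theorem not_dvd_char {P' : Type*} [Group P'] [Finite P'] {τ : P' →* ↥(twistedE6 K q)}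
    (hτ : Cfsg.IsStemExtension τ) : ¬ ringChar K ∣ Nat.card τ.ker := by
  classical
  obtain ⟨-, hU, -, hG, -⟩ := TE6.summary hq hK
  have hP := TE6.twGp θ hθ h2
  have := ringChar.charP K
  have hpr : (ringChar K).Prime := CharP.char_is_prime K _
  haveI : Fact (ringChar K).Prime := ⟨hpr⟩
  have hdq : ringChar K ∣ q := by
    refine hpr.dvd_of_dvd_pow (n := 2) ?_
    rw [← hK]
    exact (ringChar.spec K _).1 (FiniteField.cast_card_eq_zero K)
  set S := (chevE6.posUnipotent K ⊓ twistedE6 K q).subgroupOf (twistedE6 K q)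
  set T := Ladder.tail (layer θ (Γ := twistedE6 K q)) 24 0
  have hle : S ≤ T := fun g hg => U_le_tail θ hP (Subgroup.mem_inf.1 (Subgroup.mem_subgroupOf.1 hg)).1
  have hScard : Nat.card S = q ^ 36 := by
    rw [Nat.card_congr (Subgroup.subgroupOfEquivOfLe inf_le_right).toEquiv, hU]
  have hidx : ¬ ringChar K ∣ S.index := by
    intro hd
    have hm := congrArg (Nat.cast : ℕ → ℤ) hG
    rw [← Subgroup.card_mul_index S, hScard] at hm
    push_cast [Nat.one_le_pow _ _ (show 0 < q by omega)] at hm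
    set I := (S.index : ℤ)
    set R : ℤ := ((q : ℤ) ^ 2 - 1) * ((q : ℤ) ^ 5 + 1) * ((q : ℤ) ^ 6 - 1) * ((q : ℤ) ^ 8 - 1) *
      ((q : ℤ) ^ 9 + 1) * ((q : ℤ) ^ 12 - 1) with hR
    have e : (Nat.gcd 3 (q + 1) : ℤ) * I = R := by
      refine mul_left_cancel₀ (pow_ne_zero 36 (show (q : ℤ) ≠ 0 by omega)) ?_
      linear_combination hm
    have h0 : (R : ZMod (ringChar K)) = 0 := by
      rw [← e, Int.cast_mul, show ((I : ℤ) : ZMod (ringChar K)) = (S.index : ZMod (ringChar K)) from
        Int.cast_natCast _, (ZMod.natCast_eq_zero_iff _ _).2 hd, mul_zero]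
    rw [hR] at h0
    push_cast at h0
    simp [(ZMod.natCast_eq_zero_iff _ _).2 hdq] at h0
  refine not_dvd_ker_of_preimage hτ T (fun h => hidx (h.trans (Subgroup.index_dvd_of_le hle)))
    fun z hz hz' _ => ?_
  exact inter θ h2 hθ hK h3 hP hτ.2.1 (L := Function.surjInv hτ.1) (Function.surjInv_eq hτ.1) hq hz hz'

end CfsgLib.Lie.Mult.TE6Def
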