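import Cfsg.Agent.Lib.Lie.Mult.TE6.Torus
import Cfsg.Agent.Lib.Lie.Mult.Ladder

/-!
# The orbit root groups of `²E₆(q)` form a ladder
-/

set_option autoImplicit false
set_option maxRecDepth 100000
set_option maxHeartbeats 400000
set_option linter.unusedSectionVars false

namespace CfsgLib.Lie.Mult.TE6Lay

open Cfsg.Lie CfsgLib.Lie.Chev TE6Tor
open scoped MatrixGroups commutatorElement
open TE6 (C rt nd twist orbits)
open TwSub (Uh coord orbX orbOf hgt sgI)
open TwSub.E6 (pf ef hpf hef)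

/-- the representatives, ordered by height -/
def reps : List (Fin chevE6.nroots) :=
  [rt 36, rt 37, rt 39, rt 46, rt 38, rt 40, rt 47, rt 41, rt 44, rt 48, rt 45, rt 49, rt 51, rt 52, rt 53, rt 60,
    rt 54, rt 63, rt 55, rt 65, rt 66, rt 69, rt 70, rt 71]

/-- the representative of a layer -/
def rep (a : ℕ) : Fin chevE6.nroots := reps.getD a (rt 71)

/-- the roots of a layer -/
noncomputable def orb (a : ℕ) : List (Fin chevE6.nroots) := orbOf pf (rep a)

/-- the layers of a given height -/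
noncomputable def grp (h : ℕ) : List ℕ := (List.range 24).filter fun a => decide (hgt C.G (rep a) = h)

/-- the first layer of a given height -/
noncomputable def fst' (h : ℕ) : ℕ := ((List.range 24).filter fun a => decide (hgt C.G (rep a) < h)).length

set_option synthInstance.maxSize 2000 in
theorem orb_ok : ∀ a < 24, ((orb a).map pf).Perm (orb a) ∧
    ((orb a).Pairwise fun s t => s ≠ t ∧ chevE6.commTerms s.val t.val = []) ∧
    (∀ s ∈ orb a, chevE6.IsPosRoot s.val ∧ hgt C.G s = hgt C.G (rep a) ∧ (s = rep a ∨ s = pf (rep a))) ∧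
    rep a ∈ orb a ∧ pf (rep a) ∈ orb a ∧ pf (pf (rep a)) = rep a ∧ ef (pf (rep a)) = ef (rep a) := by
  decide +kernel

set_option synthInstance.maxSize 2000 in
theorem grp_ok : ∀ h < 12, ((grp h).flatMap orb).Nodup ∧
    (∀ r : Fin chevE6.nroots, chevE6.IsPosRoot r.val → hgt C.G r = h → r ∈ (grp h).flatMap orb) ∧
    (∀ a ∈ grp h, a < 24 ∧ hgt C.G (rep a) = h ∧ fst' h ≤ a) ∧ fst' h ≤ fst' (h + 1) := by
  decide +kernel

theorem height_ok : ∀ i < 24, 1 ≤ hgt C.G (rep i) ∧ hgt C.G (rep i) ≤ 11 ∧ ∀ j < 24,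
    max i j + 1 ≤ fst' (min ((hgt C.G (rep i)).toNat + (hgt C.G (rep j)).toNat) 12) := by decide +kernel

theorem pair_ok : ∀ k < 24, ∀ i < k,
    (vecs.any fun v => decide (chr v (rep i) = (0, 0)) && good (chr v (rep k))) = true := by decide +kernel

theorem scal_ok : ∀ a < 24, ∃ v ∈ vecs, good (chr v (rep a)) = true ∧
    (pf (rep a) = rep a ∨ chr v (rep a) = (1, 0) ∨ chr v (rep a) = (0, 1)) := by decide +kernel

variable {K : Type*} [Field K] (θ : K ≃+* K)

/-- parameters of a fixed product -/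
def Okc (o : List (Fin chevE6.nroots)) (c : Fin chevE6.nroots → K) : Prop :=
  ∀ s ∈ o, c ((twist θ).p s) = (twist θ).eps s * θ (c s)

theorem orb_comm {a : ℕ} (ha : a < 24) (c d : Fin chevE6.nroots → K) :
    (orb a).Pairwise fun s t => Commute (C.G.xu s (c s)) (C.G.xu t (d t)) := by
  obtain ⟨-, hcomm, hpos, -⟩ := orb_ok a ha
  refine hcomm.imp_of_mem fun {s t} hs ht hst => ?_
  have hcm := C.commAt s t (Ne.symm hst.1) (C.pos_ne_negr (hpos s hs).1 (hpos t ht).1) (c s) (d t)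
  unfold CommAt cwR at hcm
  rw [hst.2, List.map_nil, wordR_nil, mul_one] at hcm
  have h : Commute (C.G.xu t (d t)) (C.G.xu s (c s)) := Units.ext hcm
  exact h.symm

theorem orbX_mul {a : ℕ} (ha : a < 24) (c d : Fin chevE6.nroots → K) :
    orbX C.G (orb a) c * orbX C.G (orb a) d = orbX C.G (orb a) (c + d) := by
  have hp := orb_comm ha d c
  revert hp
  generalize orb a = o
  intro hp
  induction o with
  | nil => simp [orbX]
  | cons s o ih =>
    rw [List.pairwise_cons] at hp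
    have hc : Commute (orbX C.G o c) (C.G.xu s (d s)) := by
      refine Commute.list_prod_left _ _ fun x hx => ?_
      obtain ⟨t, ht, rfl⟩ := List.mem_map.1 hx
      exact (hp.1 t ht).symm
    have e : ∀ c : Fin chevE6.nroots → K, orbX C.G (s :: o) c = C.G.xu s (c s) * orbX C.G o c := fun c => by
      simp [orbX]
    rw [e, e, e, ← ih hp.2, Pi.add_apply, C.G.xu_add,
      show C.G.xu s (c s) * orbX C.G o c * (C.G.xu s (d s) * orbX C.G o d) =
        C.G.xu s (c s) * (orbX C.G o c * C.G.xu s (d s)) * orbX C.G o d by group, hc.eq]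
    group

theorem orbX_zero (o : List (Fin chevE6.nroots)) : orbX C.G o (fun _ => (0 : K)) = 1 := by
  induction o with
  | nil => simp [orbX]
  | cons s o ih =>
    rw [orbX, List.map_cons, List.prod_cons, C.G.xu_zero, one_mul]
    exact ih

theorem orbX_neg {a : ℕ} (ha : a < 24) (c : Fin chevE6.nroots → K) :
    (orbX C.G (orb a) c)⁻¹ = orbX C.G (orb a) (-c) := by
  refine inv_eq_of_mul_eq_one_right ?_
  rw [orbX_mul ha, add_neg_cancel]
  exact orbX_zero _

theorem orbX_congr {o : List (Fin chevE6.nroots)} {c d : Fin chevE6.nroots → K} (h : ∀ s ∈ o, c s = d s) :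
    orbX C.G o c = orbX C.G o d := by
  unfold orbX
  exact congrArg _ (List.map_congr_left fun s hs => by rw [h s hs])

theorem orbX_tor (v : Vec) (u : Kˣ) (o : List (Fin chevE6.nroots)) (c : Fin chevE6.nroots → K) :
    tor θ v u * orbX C.G o c * (tor θ v u)⁻¹ = orbX C.G o fun s => (mon θ (chr v s) u : K) * c s := by
  induction o with
  | nil => simp [orbX]
  | cons s o ih =>
    have e : ∀ c : Fin chevE6.nroots → K, orbX C.G (s :: o) c = C.G.xu s (c s) * orbX C.G o c := fun c => by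
      simp [orbX]
    rw [e, e, ← ih, ← tor_xu θ v u s]
    group

theorem orbX_flat (c : Fin chevE6.nroots → K) (l : List ℕ) :
    (l.map fun a => orbX C.G (orb a) c).prod = orbX C.G (l.flatMap orb) c := by
  induction l with
  | nil => simp [orbX]
  | cons a l ih =>
    rw [List.map_cons, List.prod_cons, ih, List.flatMap_cons]
    simp [orbX]

variable (h2 : ∀ t : K, θ (θ t) = t) {Γ : Subgroup (GL chevE6.Idx K)} (hP : TwGp (orbits θ) Γ)

/-- the layers -/
def layer (a : ℕ) : Set ↥Γ := {g | ∃ c, Okc θ (orb a) c ∧ (g : GL chevE6.Idx K) = orbX C.G (orb a) c}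

/-- the torus elements in use -/
def tors : Set ↥Γ := {h | ∃ v ∈ vecs, ∃ u : Kˣ, (h : GL chevE6.Idx K) = tor θ v u}

include hP

theorem exists_elem {a : ℕ} (ha : a < 24) {c : Fin chevE6.nroots → K} (hc : Okc θ (orb a) c) :
    ∃ g ∈ layer θ (Γ := Γ) a, (g : GL chevE6.Idx K) = orbX C.G (orb a) c := by
  obtain ⟨hperm, hcomm, hpos, -⟩ := orb_ok a ha
  refine ⟨⟨_, ?_⟩, ⟨c, hc, rfl⟩, rfl⟩
  rw [hP.eq_Fix]
  exact (TwSub.E6.setting θ).orbX_fix (hpf θ) hperm hcomm (fun s hs => (hpos s hs).1) hc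

theorem mem_Uh {a : ℕ} (ha : a < 24) {g : ↥Γ} (hg : g ∈ layer θ a) :
    (g : GL chevE6.Idx K) ∈ (Uh C.G (hgt C.G (rep a)) : Subgroup (GL chevE6.Idx K)) := by
  obtain ⟨c, -, e⟩ := hg
  rw [e]
  obtain ⟨-, -, hpos, -⟩ := orb_ok a ha
  exact TwSub.orbX_mem_Uh c fun s hs => ⟨(hpos s hs).1, (hpos s hs).2.1.ge⟩

theorem mem_tail_of_Uh : ∀ (n h : ℕ), h + n = 12 → 1 ≤ h → ∀ g : ↥Γ,
    (g : GL chevE6.Idx K) ∈ (Uh C.G (h : ℤ) : Subgroup (GL chevE6.Idx K)) →
      g ∈ Ladder.tail (layer θ) 24 (fst' h) := by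
  intro n
  induction n with
  | zero =>
    intro h hh _ g hg
    obtain rfl : h = 12 := by omega
    have hbot : (Uh C.G ((12 : ℕ) : ℤ) : Subgroup (GL chevE6.Idx K)) = ⊥ := by
      rw [Uh, ClP, Subgroup.closure_eq_bot_iff]
      rintro x ⟨r, t, ⟨hr, hh⟩, rfl⟩
      have := TwSub.E6.unipOk.bound r hr
      push_cast at hh this
      omega
    rw [hbot, Subgroup.mem_bot] at hg
    obtain rfl : g = 1 := Subtype.ext hg
    exact one_mem _
  | succ n ih =>
    intro h hh h1 g hg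
    have hh' : (1 : ℤ) ≤ h := by exact_mod_cast h1
    obtain ⟨hnd, hcov, hgrp, hfst⟩ := grp_ok h (by omega)
    set c : Fin chevE6.nroots → K := fun r => coord C.G r (g : GL chevE6.Idx K) with hcdef
    have hgF := hP.le g.2
    have hgG := (twist θ).Fix_le hgF
    have hok : ∀ a ∈ grp h, Okc θ (orb a) c := by
      intro a ha s hs
      obtain ⟨-, -, hpos, -⟩ := orb_ok a (hgrp a ha).1
      obtain ⟨hsp, hsh, -⟩ := hpos s hs
      have := ((TwSub.E6.setting θ).coord_φ hh' hg hgG).2 s hsp (hsh.trans (hgrp a ha).2.1)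
      rwa [(twist θ).fix_eq hgF hgG] at this
    have key : ∀ l : List ℕ, (∀ a ∈ l, a ∈ grp h) → ∃ y : ↥Γ, y ∈ Ladder.tail (layer θ) 24 (fst' h) ∧
        (y : GL chevE6.Idx K) = (l.map fun a => orbX C.G (orb a) c).prod := by
      intro l
      induction l with
      | nil => exact fun _ => ⟨1, one_mem _, by simp⟩
      | cons a l ihl =>
        intro hl
        obtain ⟨y, hy, ey⟩ := ihl fun x hx => hl x (List.mem_cons_of_mem _ hx)
        obtain ⟨ha, -, haf⟩ := hgrp a (hl a List.mem_cons_self)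
        obtain ⟨e, he, ee⟩ := exists_elem θ hP ha (hok a (hl a List.mem_cons_self))
        exact ⟨e * y, mul_mem (Ladder.mem_tail haf ha he) hy, by
          rw [Subgroup.coe_mul, ee, ey, List.map_cons, List.prod_cons]⟩
    obtain ⟨y, hy, ey⟩ := key (grp h) fun a ha => ha
    rw [orbX_flat] at ey
    have hL : ∀ s ∈ (grp h).flatMap orb, chevE6.IsPosRoot s.val ∧ (h : ℤ) ≤ hgt C.G s := by
      intro s hs
      obtain ⟨a, ha, hsa⟩ := List.mem_flatMap.1 hs
      obtain ⟨-, -, hpos, -⟩ := orb_ok a (hgrp a ha).1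
      exact ⟨(hpos s hsa).1, ((hpos s hsa).2.1.trans (hgrp a ha).2.1).ge⟩
    have hyU : (y : GL chevE6.Idx K) ∈ (Uh C.G (h : ℤ) : Subgroup (GL chevE6.Idx K)) := by
      rw [ey]; exact TwSub.orbX_mem_Uh c hL
    have hyg : ((y⁻¹ * g : ↥Γ) : GL chevE6.Idx K) ∈
        (Uh C.G (((h + 1 : ℕ)) : ℤ) : Subgroup (GL chevE6.Idx K)) := by
      push_cast
      refine TwSub.mem_Uh_succ C hh' (mul_mem (inv_mem hyU) hg) fun r hr hrh => ?_
      rw [TwSub.coord_mul C.G hh' (by omega) (inv_mem hyU) hg,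
        TwSub.coord_inv C.G hh' (by omega) hyU, ey,
        (TwSub.coord_orbX hh' hr hrh c _ hnd hL).2, if_pos (hcov r hr hrh), hcdef]
      exact neg_add_cancel _
    have := mul_mem hy (Ladder.tail_anti hfst (ih (h + 1) (by omega) (by omega) _ hyg))
    rwa [mul_inv_cancel_left] at this

theorem U_le_tail {g : ↥Γ} (hg : (g : GL chevE6.Idx K) ∈ chevE6.posUnipotent K) :
    g ∈ Ladder.tail (layer θ) 24 0 :=
  Ladder.tail_anti (Nat.zero_le _) (mem_tail_of_Uh θ hP 11 1 rfl le_rfl g (by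
    exact_mod_cast TwSub.U_le_Uh_one C.G hg))

theorem comm_mem {i j : ℕ} (hi : i < 24) (hj : j < 24) {g v : ↥Γ} (hg : g ∈ layer θ i) (hv : v ∈ layer θ j) :
    ⁅g, v⁆ ∈ Ladder.tail (layer θ) 24 (max i j + 1) := by
  obtain ⟨a1, -, a3⟩ := height_ok i hi
  obtain ⟨b1, -, -⟩ := height_ok j hj
  have hgU := mem_Uh θ hP hi hg
  have hvU := mem_Uh θ hP hj hv
  set m := min ((hgt C.G (rep i)).toNat + (hgt C.G (rep j)).toNat) 12 with hm
  refine Ladder.tail_anti (a3 j hj) (mem_tail_of_Uh θ hP (12 - m) m (by omega) (by omega) _ ?_)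
  refine TwSub.Uh_mono C.G (b := hgt C.G (rep i) + hgt C.G (rep j)) (by omega) ?_
  have := TwSub.Uh_conj C (TwSub.Uh_le_U C.G _ hvU) (TwSub.Uh_comm C hgU hvU)
  rw [show ((⁅g, v⁆ : ↥Γ) : GL chevE6.Idx K) = (v : GL chevE6.Idx K) *
      ((v : GL chevE6.Idx K)⁻¹ * ((g : GL chevE6.Idx K) * v * (g : GL chevE6.Idx K)⁻¹)) *
      (v : GL chevE6.Idx K)⁻¹ by
    rw [commutatorElement_def]; simp only [Subgroup.coe_mul, Subgroup.coe_inv]; group]
  exact this

include h2

theorem chr_p {v : Vec} (hv : v ∈ vecs) {a : ℕ} (ha : a < 24) {s : Fin chevE6.nroots} (hs : s ∈ orb a) (u : Kˣ) :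
    θ ((mon θ (chr v s) u : Kˣ) : K) = ((mon θ (chr v ((twist θ).p s)) u : Kˣ) : K) := by
  rw [θ_mon θ h2, hpf, chr_swap v hv s (Or.inl ((orb_ok a ha).2.2.1 s hs).1)]

theorem okc_scale {v : Vec} (hv : v ∈ vecs) (u : Kˣ) {a : ℕ} (ha : a < 24) {c : Fin chevE6.nroots → K}
    (hc : Okc θ (orb a) c) (f : K → K) (hf : ∀ x, θ (f x) = f (θ x)) :
    Okc θ (orb a) fun s => f (mon θ (chr v s) u : K) * c s := fun s hs => by
  show f _ * c _ = _
  rw [hc s hs, map_mul, hf, chr_p θ h2 hP hv ha hs]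
  ring

theorem Hinv {h : ↥Γ} (hh : h ∈ tors θ) {a : ℕ} (ha : a < 24) {g : ↥Γ} (hg : g ∈ layer θ a) :
    h * g * h⁻¹ ∈ layer θ a := by
  obtain ⟨v, hv, u, hu⟩ := hh
  obtain ⟨c, hc, e⟩ := hg
  refine ⟨_, okc_scale θ h2 hP hv u ha hc id (fun _ => rfl), ?_⟩
  rw [Subgroup.coe_mul, Subgroup.coe_mul, Subgroup.coe_inv, hu, e, orbX_tor]
  rfl

theorem layers : Ladder.Layers (layer θ) 24 (tors θ (Γ := Γ)) where
  comm i j hi hj g hg v hv := comm_mem θ hP hi hj hg hv
  Hcomm x hx y hy := by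
    obtain ⟨v, hv, u, hu⟩ := hx
    obtain ⟨v', hv', u', hu'⟩ := hy
    exact Subtype.ext (by
      show (x : GL chevE6.Idx K) * y = y * x
      rw [hu, hu']
      exact C.G.diagonal_comm (tor_mem θ h2 hv u).2 (tor_mem θ h2 hv' u').2)
  Hinv h hh a ha g hg := Ladder.mem_tail le_rfl ha (Hinv θ h2 hP hh ha hg)

theorem exists_tor {v : Vec} (hv : v ∈ vecs) (u : Kˣ) :
    ∃ h ∈ tors θ (Γ := Γ), (h : GL chevE6.Idx K) = tor θ v u :=
  ⟨⟨_, hP.H_le (tor_mem θ h2 hv u)⟩, ⟨v, hv, u, rfl⟩, rfl⟩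

/-- an operator with nontrivial weight moves the layer -/
theorem moves {a : ℕ} (ha : a < 24) {v : Vec} (hv : v ∈ vecs) {u : Kˣ} {h : ↥Γ}
    (hu : (h : GL chevE6.Idx K) = tor θ v u) (hl : mon θ (chr v (rep a)) u ≠ 1) :
    ∀ g ∈ layer θ a, ∃ w ∈ Ladder.tail (layer θ (Γ := Γ)) 24 a,
      ⁅h, w⁆⁻¹ * g ∈ Ladder.tail (layer θ) 24 (a + 1) := by
  rintro g ⟨c, hc, e⟩
  obtain ⟨-, -, hpos, hrep, -⟩ := orb_ok a ha
  set l : Fin chevE6.nroots → K := fun s => (mon θ (chr v s) u : K) with hldef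
  have hls : ∀ s ∈ orb a, l s - 1 ≠ 0 := by
    intro s hs
    have h0 : l (rep a) ≠ 1 := fun e => hl (Units.ext e)
    rcases (hpos s hs).2.2 with rfl | rfl
    · exact sub_ne_zero.2 h0
    · refine sub_ne_zero.2 fun e => h0 (θ.injective ?_)
      rw [map_one, ← e, hldef]
      simp only
      rw [chr_p θ h2 hP hv ha hrep, hpf]
  obtain ⟨w, hw, ew⟩ := exists_elem θ hP ha
    (okc_scale θ h2 hP hv u ha hc (fun x => (x - 1)⁻¹) (fun x => by rw [map_inv₀, map_sub, map_one]))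
  refine ⟨w, Ladder.mem_tail le_rfl ha hw, ?_⟩
  have key : ⁅h, w⁆ = g := by
    refine Subtype.ext ?_
    rw [commutatorElement_def, Subgroup.coe_mul, Subgroup.coe_mul, Subgroup.coe_mul, Subgroup.coe_inv,
      Subgroup.coe_inv, hu, ew, e, orbX_tor, orbX_neg ha, orbX_mul ha]
    refine orbX_congr fun s hs => ?_
    have := hls s hs
    simp only [Pi.add_apply, Pi.neg_apply, hldef] at this ⊢
    field_simp
    ring
  rw [key, inv_mul_cancel]
  exact one_mem _

end CfsgLib.Lie.Mult.TE6Lay
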