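import Cfsg.Agent.Lib.Lie.Mult.TwSL2
import Cfsg.Agent.Lib.Lie.Mult.EngineImage
import Cfsg.Agent.Lib.Lie.Chev.Tw.Sub.E6
import Cfsg.Agent.Lib.Lie.Chev.Tw.E6Simple

/-!
# The multiplier of `²E₆(q)` away from the defining prime
-/

set_option autoImplicit false
set_option maxRecDepth 100000
set_option linter.unusedSectionVars false
set_option linter.unusedSimpArgs false

namespace CfsgLib.Lie.Mult.TE6Prime

open Cfsg.Lie CfsgLib.Lie.Chev TwEngine
open scoped MatrixGroups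
open CfsgLib.Lie.SL2Rel
open TE6 (C rt nd twist orbits)

variable {K : Type*} [Field K] (θ : K ≃+* K) {q : ℕ}

theorem hno : 4 = orbGraphE6.no := by decide +kernel

/-- the Coxeter matrix on the orbits -/
noncomputable def M : CoxeterMatrix (Fin orbGraphE6.no) := CoxeterMatrix.F₄.reindex (finCongr hno)

theorem list_val (l : List (Fin orbGraphE6.no)) (r : Fin chevE6.nroots) :
    ((l.map (orbits θ).wO).prod r).val =
      l.foldr (fun k x => digit (orbGraphE6.tab.get k.val) x) r.val := by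
  induction l with
  | nil => rfl
  | cons k l ih => rw [List.map_cons, List.prod_cons, Equiv.Perm.mul_apply, TE6.wO_val, ih]; rfl

/-- the table of a word in the orbit elements -/
noncomputable def run (l : List (Fin orbGraphE6.no)) (r : ℕ) : ℕ :=
  l.foldr (fun k x => digit (orbGraphE6.tab.get k.val) x) r

theorem braid_tab : ∀ i j : Fin orbGraphE6.no, i = j ∨ ∀ r < chevE6.nroots,
    run (altL j i (M i j - 1) ++ [if Even (M i j) then i else j]) r = run (i :: altL j i (M i j - 1)) r ∧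
      (chevE6.IsPosRoot r → ¬ chevE6.IsPosRoot (run [if Even (M i j) then i else j] r) →
        chevE6.IsPosRoot (run (altL j i (M i j - 1)) r) ∧
          ¬ chevE6.IsPosRoot (run (i :: altL j i (M i j - 1)) r)) := by
  decide +kernel

theorem braid_ok : BraidOK (orbits θ) M := by
  intro i j hij hm
  refine ⟨Equiv.ext fun r => Fin.ext ?_, fun r hr hn => ?_⟩
  · have h := (((braid_tab i j).resolve_left hij) r.val r.isLt).1
    simp only [run] at h
    rw [← list_val θ, ← list_val θ, List.map_append, List.prod_append] at h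
    simpa using h
  · have h := (((braid_tab i j).resolve_left hij) r.val r.isLt).2 hr
    simp only [run] at h
    rw [← list_val θ, ← list_val θ, ← list_val θ] at h
    simpa [Equiv.Perm.mul_apply] using h (by simpa using hn)

theorem coxeter_tab : ∀ i j : Fin orbGraphE6.no, ∀ r < chevE6.nroots,
    tabPow (orbGraphE6.tab.get i.val) (orbGraphE6.tab.get j.val) (M i j) r = r := by decide +kernel

theorem faith (l : List (Fin orbGraphE6.no)) (hl : (l.map (orbits θ).wO).prod = 1) :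
    (l.map M.simple).prod = 1 := by
  have hcard : Nat.card M.Group = 1152 := by
    obtain ⟨ψ, -⟩ := exists_equivF4 goodF4
    rw [M, Nat.card_congr (CoxeterMatrix.reindexGroupEquiv _ _).toEquiv, Nat.card_congr ψ.toEquiv, cardWgF4]
  exact faith_of (O := orbits θ) M id Function.surjective_id
    (fun i j => (orbits θ).pow_eq_one_of_tab (fun o => orbGraphE6.tab.get o.val) (TE6.wO_val θ) _ _ _
      (coxeter_tab i j))
    (by rw [hcard]; norm_num)
    (by rw [(orbits θ).card_Wp (TE6.wO_val θ) chkEnum_graphE6, hcard]; rfl) l hl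

/-- the fixed field -/
noncomputable abbrev F0 : Subfield K := θ.toRingHom.eqLocusField (RingHom.id K)

/-- the group of a fixed node -/
noncomputable def fS (a : Fin chevE6.nroots) : SL(2, ↥(F0 θ)) →* GL chevE6.Idx K :=
  ((C.G.sl2Fam (K := K) a).hom (C.G.sl2Fam_mult a)).comp (Matrix.SpecialLinearGroup.map (F0 θ).subtype)

theorem fS_upper (a : Fin chevE6.nroots) (t : ↥(F0 θ)) : fS θ a (Fam.upper t) = C.G.xu a (t : K) := by
  rw [fS, MonoidHom.comp_apply, show Matrix.SpecialLinearGroup.map (F0 θ).subtype (Fam.upper t) =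
    Fam.upper (t : K) by
      refine Subtype.ext ?_
      show (Fam.upper t).1.map (F0 θ).subtype = (Fam.upper (t : K)).1
      ext i j
      fin_cases i <;> fin_cases j <;> simp [Fam.upper]]
  exact Fam.hom_upper _ _ _

theorem fS_lower (a : Fin chevE6.nroots) (t : ↥(F0 θ)) : fS θ a (Fam.lower t) = C.G.xu (C.G.negr a) (t : K) := by
  rw [fS, MonoidHom.comp_apply, show Matrix.SpecialLinearGroup.map (F0 θ).subtype (Fam.lower t) =
    Fam.lower (t : K) by
      refine Subtype.ext ?_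
      show (Fam.lower t).1.map (F0 θ).subtype = (Fam.lower (t : K)).1
      ext i j
      fin_cases i <;> fin_cases j <;> simp [Fam.lower]]
  exact Fam.hom_lower _ _ _

theorem fS_wF (a : Fin chevE6.nroots) (c : ↥(F0 θ)) : fS θ a (TwEngine.wF c) = C.G.nE a (c : K) := by
  simp only [TwEngine.wF, map_mul, fS_upper, fS_lower, Good.nE]
  push_cast
  rfl

theorem fS_dg (i : Fin chevE6.rank) (a : (↥(F0 θ))ˣ) : fS θ (C.G.simp' i) (SLUniv.dg a) =
    C.G.torθ (Pi.mulSingle i (Units.map (F0 θ).subtype.toMonoidHom a)) := by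
  rw [dg_eq, map_mul, fS_wF, fS_wF, C.G.torθ_single, C.hd_eq]
  simp

variable {a b : Fin chevE6.nroots} (h : C.Orth a b)

/-- the group of a pair of nodes -/
noncomputable def fP : SL(2, K) →* GL chevE6.Idx K := TwSub.pairHom C θ h

theorem fP_upper (t : K) : fP θ h (Fam.upper t) = C.G.xu a t * C.G.xu b (θ t) := TwSub.pairHom_upper h t

theorem fP_wF (c : K) : fP θ h (TwEngine.wF c) = C.G.nE a c * C.G.nE b (θ c) := by
  simp only [TwEngine.wF, map_mul, fP, TwSub.pairHom_upper, TwSub.pairHom_lower, map_neg, map_inv₀]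
  rw [C.nE_pair h]

theorem fP_dg (u : Kˣ) : fP θ h (SLUniv.dg u) = C.G.hd a u * C.G.hd b (Units.map θ.toMonoidHom u) := by
  rw [dg_eq, map_mul, fP_wF, fP_wF, C.hd_pair h]
  simp

theorem orth24 : C.Orth (C.G.simp' (nd 2)) (C.G.simp' (nd 4)) := by
  obtain ⟨-, -, s2, -, s4, -⟩ := TE6.simp_rt; rw [s2, s4]; exact TE6.orth_pairs.1

theorem orth05 : C.Orth (C.G.simp' (nd 0)) (C.G.simp' (nd 5)) := by
  obtain ⟨s0, -, -, -, -, s5⟩ := TE6.simp_rt; rw [s0, s5]; exact TE6.orth_pairs.2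

/-- the four rank one groups -/
noncomputable abbrev g1 := fS θ (C.G.simp' (nd 1))
/-- the second of the four groups -/
noncomputable abbrev g3 := fS θ (C.G.simp' (nd 3))
/-- the third of the four groups -/
noncomputable abbrev g2 := fP θ orth24
/-- the fourth of the four groups -/
noncomputable abbrev g0 := fP θ orth05

variable (hθ : ∀ x, θ x = x ^ q) (h2 : ∀ t : K, θ (θ t) = t)
include hθ h2

theorem fS_mem {i : Fin chevE6.rank} (hi : i = nd 1 ∨ i = nd 3) (x : SL(2, ↥(F0 θ))) :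
    fS θ (C.G.simp' i) x ∈ twistedE6 K q := by
  obtain ⟨-, s1, -, s3, -, -⟩ := TE6.simp_rt
  obtain ⟨n1, n2, -⟩ := TE6.negr_rt
  have key : ∀ t : ↥(F0 θ), fS θ (C.G.simp' i) (Fam.upper t) ∈ twistedE6 K q ∧
      fS θ (C.G.simp' i) (Fam.lower t) ∈ twistedE6 K q := by
    intro t
    obtain ⟨m1, m2, m3, m4⟩ := TE6.single_mem θ hθ t.2
    rcases hi with rfl | rfl
    · rw [fS_upper, fS_lower, s1, n1]; exact ⟨m1, m2⟩
    · rw [fS_upper, fS_lower, s3, n2]; exact ⟨m3, m4⟩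
  refine Fam.mem_gens (P := fun x => fS θ (C.G.simp' i) x ∈ twistedE6 K q)
    (fun a b ha hb => by rw [map_mul]; exact mul_mem ha hb) (fun t => (key t).1) ?_ x
  rw [TwSub.wel_eq]
  simp only [map_mul]
  exact mul_mem (mul_mem (key 1).2 (key (-1)).1) (key 1).2

theorem fP_mem {a b : Fin chevE6.nroots} (h : C.Orth a b)
    (hp : ∀ t, TE6.x2 θ a b t ∈ twistedE6 K q) (hn : ∀ t, TE6.x2 θ (C.G.negr a) (C.G.negr b) t ∈ twistedE6 K q)
    (x : SL(2, K)) : fP θ h x ∈ twistedE6 K q := by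
  refine Fam.mem_gens (P := fun x => fP θ h x ∈ twistedE6 K q)
    (fun a b ha hb => by rw [map_mul]; exact mul_mem ha hb) (fun t => by rw [fP_upper]; exact hp t) ?_ x
  rw [TwSub.wel_eq]
  simp only [map_mul, fP, TwSub.pairHom_upper, TwSub.pairHom_lower]
  exact mul_mem (mul_mem (hn 1) (hp (-1))) (hn 1)

omit hθ h2

theorem pos_simp : ∀ i : Fin chevE6.rank, chevE6.IsPosRoot (C.G.simp' i).val := fun i => by
  rw [C.G.simp_val]; revert i; decide +kernel

theorem tor_mem (c : Fin chevE6.rank → Kˣ) : C.G.torθ c ∈ chevE6.diagonalSubgroup K :=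
  (C.G.diagonal_eq_range (K := K)).symm ▸ ⟨c, rfl⟩

theorem nw_one (i : Fin chevE6.rank) : C.G.nw (K := K) [i] = C.G.nE (C.G.simp' i) 1 := by
  rw [Good.nw_cons, Good.nw_nil, mul_one]
  simp [Good.nU, Good.nE]

theorem nw_two (i j : Fin chevE6.rank) :
    C.G.nw (K := K) [i, j] = C.G.nE (C.G.simp' i) 1 * C.G.nE (C.G.simp' j) 1 := by
  rw [Good.nw_cons, Good.nw_cons, Good.nw_nil, mul_one]
  simp [Good.nU, Good.nE]

theorem nperm_of_word {k : Fin orbGraphE6.no} {l : List (Fin chevE6.rank)}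
    (hl : orbGraphE6.wl chevE6 k = l) {g : GL chevE6.Idx K} (hg : g = C.G.nw l) :
    g ∈ chevE6.monomialSubgroup K ∧ C.G.NPerm g ((orbits θ).wO k) := by
  have hw : (orbits θ).wO k = C.G.pw l := by
    show C.G.pw (orbGraphE6.wl chevE6 k) = _
    rw [hl]
  rw [hg, hw]
  exact ⟨C.G.nw_mem_monomial _, C.G.nPerm_nw _⟩

theorem fS_nperm {k : Fin orbGraphE6.no} {i : Fin chevE6.rank} (hl : orbGraphE6.wl chevE6 k = [i]) :
    fS θ (C.G.simp' i) (TwEngine.wF 1) ∈ chevE6.monomialSubgroup K ∧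
      C.G.NPerm (fS θ (C.G.simp' i) (TwEngine.wF 1)) ((orbits θ).wO k) :=
  nperm_of_word θ hl (by rw [fS_wF, nw_one]; rfl)

theorem fP_nperm {k : Fin orbGraphE6.no} {i j : Fin chevE6.rank} (h : C.Orth (C.G.simp' i) (C.G.simp' j))
    (hl : orbGraphE6.wl chevE6 k = [i, j]) :
    fP θ h (TwEngine.wF 1) ∈ chevE6.monomialSubgroup K ∧
      C.G.NPerm (fP θ h (TwEngine.wF 1)) ((orbits θ).wO k) :=
  nperm_of_word θ hl (by rw [fP_wF, map_one, nw_two])

theorem coroot_ker {z : Fin chevE6.rank → Kˣ} (hz : C.G.torθ z = 1) {i j l : Fin chevE6.rank}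
    (hs : ∀ m, m ≠ i → m ≠ j → z m = 1) (hi : cmat chevE6 i l = -1) (hj : i = j ∨ cmat chevE6 j l = 0) :
    z i = 1 := by
  have h := (C.G.torθ_ker z).1 (MonoidHom.mem_ker.2 hz) l
  rw [Finset.prod_eq_single i] at h
  · rwa [hi, zpow_neg_one, inv_eq_one] at h
  · intro m _ hm
    by_cases hmj : m = j
    · subst hmj
      rw [hj.resolve_left (Ne.symm hm), zpow_zero]
    · rw [hs m hm hmj, one_zpow]
  · simp

theorem fS_diag {k : Fin orbGraphE6.no} {i : Fin chevE6.rank} (hl : orbGraphE6.wl chevE6 k = [i])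
    {x : SL(2, ↥(F0 θ))} (hx : fS θ (C.G.simp' i) x ∈ chevE6.diagonalSubgroup K) : ∃ a, x = SLUniv.dg a := by
  refine eq_dg_of_diag (C := C) _ (fun t => ?_) (fun t ht => ?_) (fun a => ?_) (fS_nperm θ hl).1
    (fS_nperm θ hl).2 ((orbits θ).wO_ne_one _) hx
  · rw [fS_upper]; exact C.G.xu_mem_U (pos_simp i) _
  · rw [fS_upper, C.G.xu_eq_one_iff] at ht; exact Subtype.ext ht
  · rw [fS_dg]; exact tor_mem _

theorem fP_diag {k : Fin orbGraphE6.no} {i j : Fin chevE6.rank} (h : C.Orth (C.G.simp' i) (C.G.simp' j))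
    (hl : orbGraphE6.wl chevE6 k = [i, j]) (hne : i ≠ j)
    {x : SL(2, K)} (hx : fP θ h x ∈ chevE6.diagonalSubgroup K) : ∃ a, x = SLUniv.dg a := by
  refine eq_dg_of_diag (C := C) _ (fun t => ?_) (fun t ht => ?_) (fun a => ?_) (fP_nperm θ h hl).1
    (fP_nperm θ h hl).2 ((orbits θ).wO_ne_one _) hx
  · rw [fP_upper]; exact mul_mem (C.G.xu_mem_U (pos_simp i) _) (C.G.xu_mem_U (pos_simp j) _)
  · rw [fP_upper] at ht
    have hij : C.G.simp' i ≠ C.G.simp' j := fun e => hne (C.G.simp_injective e)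
    have := congrArg (TwSub.coord C.G (C.G.simp' i)) ht
    rw [TwSub.coord_one, TwSub.coord_mul C.G (h := 1) le_rfl (by rw [hgt_simp]; norm_num)
        (TwSub.xu_mem_Uh C.G (pos_simp i) (TwSub.hgt_pos C.G (pos_simp i)) _)
        (TwSub.xu_mem_Uh C.G (pos_simp j) (TwSub.hgt_pos C.G (pos_simp j)) _),
      TwSub.coord_xu C.G (pos_simp i) (pos_simp i) le_rfl,
      TwSub.coord_xu C.G (pos_simp i) (pos_simp j) (by rw [hgt_simp, hgt_simp]), if_pos rfl,
      if_neg (Ne.symm hij), add_zero] at this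
    exact this
  · rw [fP_dg, ← C.G.torθ_single, ← C.G.torθ_single, ← map_mul]; exact tor_mem _
where
  hgt_simp : ∀ i : Fin chevE6.rank, TwSub.hgt C.G (C.G.simp' i) = 1 := fun i => by
    rcases TE6.nd_cases i with rfl | rfl | rfl | rfl | rfl | rfl
    all_goals simp only [TE6.simp_rt]
    all_goals decide +kernel

theorem fS_inj {k : Fin orbGraphE6.no} {i l : Fin chevE6.rank} (hl : orbGraphE6.wl chevE6 k = [i])
    (hc : cmat chevE6 i l = -1) : Function.Injective (fS θ (C.G.simp' i)) := by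
  refine injective_of_diag (fS θ (C.G.simp' i)) (fun x hx => fS_diag θ hl hx) fun a ha => ?_
  rw [fS_dg] at ha
  have := coroot_ker ha (i := i) (j := i) (l := l) (fun m hm _ => Pi.mulSingle_eq_of_ne hm _) hc (Or.inl rfl)
  rw [Pi.mulSingle_eq_same] at this
  exact Units.ext (Subtype.ext (congrArg Units.val this))

theorem fP_inj {k : Fin orbGraphE6.no} {i j l : Fin chevE6.rank} (h : C.Orth (C.G.simp' i) (C.G.simp' j))
    (hl : orbGraphE6.wl chevE6 k = [i, j]) (hne : i ≠ j) (hc : cmat chevE6 i l = -1)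
    (hc' : cmat chevE6 j l = 0) : Function.Injective (fP θ h) := by
  refine injective_of_diag (fP θ h) (fun x hx => fP_diag θ h hl hne hx) fun a ha => ?_
  rw [fP_dg, ← C.G.torθ_single, ← C.G.torθ_single, ← map_mul] at ha
  have := coroot_ker ha (i := i) (j := j) (l := l) (fun m hm hm' => by
    rw [Pi.mul_apply, Pi.mulSingle_eq_of_ne hm, Pi.mulSingle_eq_of_ne hm', one_mul]) hc (Or.inr hc')
  rwa [Pi.mul_apply, Pi.mulSingle_eq_same, Pi.mulSingle_eq_of_ne hne, mul_one] at this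

theorem wl_facts : orbGraphE6.wl chevE6 ⟨0, by decide +kernel⟩ = [nd 1] ∧
    orbGraphE6.wl chevE6 ⟨1, by decide +kernel⟩ = [nd 3] ∧
    orbGraphE6.wl chevE6 ⟨2, by decide +kernel⟩ = [nd 2, nd 4] ∧
    orbGraphE6.wl chevE6 ⟨3, by decide +kernel⟩ = [nd 0, nd 5] := by decide +kernel

theorem cmat_facts : cmat chevE6 (nd 1) (nd 3) = -1 ∧ cmat chevE6 (nd 3) (nd 1) = -1 ∧
    (cmat chevE6 (nd 2) (nd 0) = -1 ∧ cmat chevE6 (nd 4) (nd 0) = 0) ∧
    cmat chevE6 (nd 0) (nd 2) = -1 ∧ cmat chevE6 (nd 5) (nd 2) = 0 := by decide +kernel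

theorem torθ_par_split {a b : Kˣ} (c d : Kˣ) : C.G.torθ (TE6.par θ a b c d) =
    C.G.torθ (Pi.mulSingle (nd 1) a) * C.G.torθ (Pi.mulSingle (nd 3) b) *
      (C.G.torθ (Pi.mulSingle (nd 2) c * Pi.mulSingle (nd 4) (Units.map θ.toMonoidHom c))) *
      C.G.torθ (Pi.mulSingle (nd 0) d * Pi.mulSingle (nd 5) (Units.map θ.toMonoidHom d)) := by
  rw [← map_mul, ← map_mul, ← map_mul]
  congr 1
  funext j
  obtain ⟨v1, v3, v2, v4, v0, v5⟩ := TE6.par_vals θ a b c d
  rcases TE6.nd_cases j with rfl | rfl | rfl | rfl | rfl | rfl <;>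
    simp only [v0, v1, v2, v3, v4, v5, Pi.mul_apply] <;> simp [Pi.mulSingle_apply, nd, Fin.ext_iff]

/-- the diagonal torus of `SL(2, F)` -/
noncomputable def diagHom (F : Type*) [Field F] : Fˣ →* SL(2, F) :=
  MonoidHom.mk' SLUniv.dg fun a b => Subtype.ext (by
    rw [val_mul', SLUniv.coe_dg, SLUniv.coe_dg, SLUniv.coe_dg]
    ext i j
    fin_cases i <;> fin_cases j <;> simp [Matrix.mul_apply, Fin.sum_univ_two, mul_comm])

/-- a rank one group given by a map from `SL(2, F)` contains the whole image -/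
theorem range_le {Γ : Subgroup (GL chevE6.Idx K)} (P : TwGp (orbits θ) Γ) {F : Type*} [Field F]
    (f : SL(2, F) →* ↥Γ) (k : Fin orbGraphE6.no) (hu : ∀ t, f (Fam.upper t) ∈ Xg (orbits θ) Γ k)
    (hn : nE P k ∈ f.range)
    (hm : ((f (TwEngine.wF 1) : ↥Γ) : GL chevE6.Idx K) ∈ chevE6.monomialSubgroup K ∧
      C.G.NPerm ((f (TwEngine.wF 1) : ↥Γ) : GL chevE6.Idx K) ((orbits θ).wO k))
    (hd : ∀ x, ((f x : ↥Γ) : GL chevE6.Idx K) ∈ chevE6.diagonalSubgroup K → ∃ a, x = SLUniv.dg a) :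
    f.range ≤ Xg (orbits θ) Γ k ⊔ Xng P k := by
  obtain ⟨y, hy⟩ := hn
  obtain ⟨a, ha⟩ := hd ((TwEngine.wF 1)⁻¹ * y) (by
    rw [map_mul, map_inv, hy, Subgroup.coe_mul, Subgroup.coe_inv]
    refine C.G.mem_H_of_nPerm_one (mul_mem (inv_mem hm.1) (nE_mon P k).2) ?_
    have := Good.NPerm.mul C.G (Good.NPerm.inv C.G hm.2) (nE_perm P k)
    rwa [inv_mul_cancel] at this)
  have hy' : y = TwEngine.wF 1 * SLUniv.dg a := by rw [← ha, mul_inv_cancel_left]
  have hl : ∀ t, f (Fam.lower t) ∈ Xg (orbits θ) Γ k ⊔ Xng P k := by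
    intro t
    have e : (TwEngine.wF 1 * SLUniv.dg a) * Fam.upper (-t / (a : F) ^ 2) * (TwEngine.wF 1 * SLUniv.dg a)⁻¹ =
        Fam.lower t := by
      rw [show TwEngine.wF (1 : F) = Fam.wel * SLUniv.dg (Units.mk0 (-(1 : F)⁻¹) (by simp)) from
        SLUniv.nword_eq one_ne_zero]
      simp only [mul_inv_rev]
      rw [show ∀ w d e u : SL(2, F), w * d * e * u * (e⁻¹ * (d⁻¹ * w⁻¹)) = w * (d * (e * u * e⁻¹) * d⁻¹) * w⁻¹ from
        fun w d e u => by group, SLUniv.dg_upper, SLUniv.dg_upper, SLUniv.wel_upper]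
      congr 1
      have := a.ne_zero
      simp; field_simp
    rw [← e, ← hy', map_mul, map_mul, map_inv, hy]
    exact mul_mem (mul_mem (nE_mem P k) (Subgroup.mem_sup_left (hu _))) (inv_mem (nE_mem P k))
  rintro _ ⟨x, rfl⟩
  refine Fam.mem_gens (P := fun x => f x ∈ Xg (orbits θ) Γ k ⊔ Xng P k)
    (fun a b ha hb => by rw [map_mul]; exact mul_mem ha hb) (fun t => Subgroup.mem_sup_left (hu t)) ?_ x
  rw [TwSub.wel_eq, map_mul, map_mul]
  exact mul_mem (mul_mem (hl _) (Subgroup.mem_sup_left (hu _))) (hl _)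

variable [Fintype K]

/-- the kernel away from the characteristic -/
theorem card_ker_dvd (hq : IsPrimePow q) (hK : Fintype.card K = q ^ 2) (hθ : ∀ x, θ x = x ^ q)
    (h2 : ∀ t : K, θ (θ t) = t) {Γ : Type*} [Group Γ] [Finite Γ]
    {τ : Γ →* ↥(twistedE6 K q)} (hτ : Cfsg.IsStemExtension τ) (hp : ¬ ringChar K ∣ Nat.card τ.ker) :
    Nat.card τ.ker ∣ Nat.gcd 3 (q + 1) := by
  classical
  have P := TE6.twGp θ hθ h2
  have hsimple : IsSimpleGroup ↥(twistedE6 K q) := (TE6.summary2 hq hK).2.2.1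
  have := ringChar.charP K
  have hpr : (ringChar K).Prime := CharP.char_is_prime K _
  have : Fact (ringChar K).Prime := ⟨hpr⟩
  obtain ⟨-, hcard, hH, -⟩ := TE6.summary hq hK
  have hU : IsPGroup (ringChar K) ↥(Ug (twist θ) (twistedE6 K q)) := by
    obtain ⟨p, n, hp', hn, rfl⟩ := hq
    have hpp : p.Prime := Nat.prime_iff.2 hp'
    have h1 : ringChar K ∣ Fintype.card K := (ringChar.spec K _).1 (FiniteField.cast_card_eq_zero K)
    rw [hK, ← pow_mul] at h1
    obtain rfl : ringChar K = p := (Nat.prime_dvd_prime_iff_eq hpr hpp).1 (hpr.dvd_of_dvd_pow h1)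
    refine IsPGroup.of_card (n := n * 36) ?_
    have hle : (twist θ).Fix ⊓ chevE6.posUnipotent K ≤ twistedE6 K (ringChar K ^ n) := P.toPre.U_le
    rw [Ug, Nat.card_congr (Subgroup.subgroupOfEquivOfLe hle).toEquiv, pow_mul, ← hcard, P.eq_Fix,
      inf_comm]
  haveI : Nonempty (Fin orbGraphE6.no) := ⟨⟨0, by decide +kernel⟩⟩
  let D := eData P (ringChar K) hU M (braid_ok θ) (faith θ)
  have E : Setup τ (ringChar K) := ⟨hpr, hτ.1, hτ.2.1, hp⟩
  obtain ⟨w0, w1, w2, w3⟩ := wl_facts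
  obtain ⟨c1, c3, ⟨c2, c2'⟩, c0, c0'⟩ := cmat_facts
  obtain ⟨n1, n2, n3, n4, n5, n6⟩ := TE6.negr_rt
  obtain ⟨s0, s1, s2, s3, s4, s5⟩ := TE6.simp_rt
  let G1 : SL(2, ↥(F0 θ)) →* ↥(twistedE6 K q) := (g1 θ).codRestrict _ (fS_mem θ hθ h2 (Or.inl rfl))
  let G3 : SL(2, ↥(F0 θ)) →* ↥(twistedE6 K q) := (g3 θ).codRestrict _ (fS_mem θ hθ h2 (Or.inr rfl))
  let G2 : SL(2, K) →* ↥(twistedE6 K q) := (g2 θ).codRestrict _ (fP_mem θ hθ h2 orth24
    (fun t => by rw [s2, s4]; exact (TE6.pair_mem θ hθ t).1)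
    (fun t => by rw [s2, s4, n3, n4]; exact (TE6.pair_mem θ hθ t).2.1))
  let G0 : SL(2, K) →* ↥(twistedE6 K q) := (g0 θ).codRestrict _ (fP_mem θ hθ h2 orth05
    (fun t => by rw [s0, s5]; exact (TE6.pair_mem θ hθ t).2.2.1)
    (fun t => by rw [s0, s5, n5, n6]; exact (TE6.pair_mem θ hθ t).2.2.2))
  have i1 : Function.Injective G1 := fun x y e => fS_inj θ w0 c1 (congrArg Subtype.val e)
  have i3 : Function.Injective G3 := fun x y e => fS_inj θ w1 c3 (congrArg Subtype.val e)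
  have i2 : Function.Injective G2 := fun x y e =>
    fP_inj θ orth24 w2 (by decide +kernel) c2 c2' (congrArg Subtype.val e)
  have i0 : Function.Injective G0 := fun x y e =>
    fP_inj θ orth05 w3 (by decide +kernel) c0 c0' (congrArg Subtype.val e)
  obtain ⟨o1, o2⟩ := TE6.orth_pairs
  have hL1 : Xg (orbits θ) (twistedE6 K q) ⟨0, by decide +kernel⟩ ⊔ Xng P ⟨0, by decide +kernel⟩ ≤ G1.range := by
    refine L_le P _ ?_ (n0 := G1 (TwEngine.wF 1)) ⟨_, rfl⟩ (fS_nperm θ w0).1 (fS_nperm θ w0).2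
    intro x hx
    obtain ⟨t, ht, e⟩ := TE6.X_single θ (a := rt 46) rfl (by decide +kernel) (Subgroup.mem_subgroupOf.1 hx)
    exact ⟨Fam.upper ⟨t, ht⟩, Subtype.ext ((fS_upper θ _ ⟨t, ht⟩).trans (by rw [s1]; exact e.symm))⟩
  have hL3 : Xg (orbits θ) (twistedE6 K q) ⟨1, by decide +kernel⟩ ⊔ Xng P ⟨1, by decide +kernel⟩ ≤ G3.range := by
    refine L_le P _ ?_ (n0 := G3 (TwEngine.wF 1)) ⟨_, rfl⟩ (fS_nperm θ w1).1 (fS_nperm θ w1).2
    intro x hx
    obtain ⟨t, ht, e⟩ := TE6.X_single θ (a := rt 39) rfl (by decide +kernel) (Subgroup.mem_subgroupOf.1 hx)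
    exact ⟨Fam.upper ⟨t, ht⟩, Subtype.ext ((fS_upper θ _ ⟨t, ht⟩).trans (by rw [s3]; exact e.symm))⟩
  have hL2 : Xg (orbits θ) (twistedE6 K q) ⟨2, by decide +kernel⟩ ⊔ Xng P ⟨2, by decide +kernel⟩ ≤ G2.range := by
    refine L_le P _ ?_ (n0 := G2 (TwEngine.wF 1)) ⟨_, rfl⟩ (fP_nperm θ orth24 w2).1 (fP_nperm θ orth24 w2).2
    intro x hx
    obtain ⟨t, e⟩ := TE6.X_pair θ (a := rt 42) (b := rt 37) rfl (by decide +kernel) (by decide +kernel)
      (fun t u => C.orth_commute o1 (by simp) (by simp) t u) (Subgroup.mem_subgroupOf.1 hx)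
    exact ⟨Fam.upper t, Subtype.ext ((fP_upper θ orth24 t).trans (by rw [s2, s4]; exact e.symm))⟩
  have hL0 : Xg (orbits θ) (twistedE6 K q) ⟨3, by decide +kernel⟩ ⊔ Xng P ⟨3, by decide +kernel⟩ ≤ G0.range := by
    refine L_le P _ ?_ (n0 := G0 (TwEngine.wF 1)) ⟨_, rfl⟩ (fP_nperm θ orth05 w3).1 (fP_nperm θ orth05 w3).2
    intro x hx
    obtain ⟨t, e⟩ := TE6.X_pair θ (a := rt 56) (b := rt 36) rfl (by decide +kernel) (by decide +kernel)
      (fun t u => C.orth_commute o2 (by simp) (by simp) t u) (Subgroup.mem_subgroupOf.1 hx)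
    exact ⟨Fam.upper t, Subtype.ext ((fP_upper θ orth05 t).trans (by rw [s0, s5]; exact e.symm))⟩
  have mono : ∀ {L L' : Subgroup ↥(twistedE6 K q)}, L ≤ L' → lhat τ (ringChar K) L ≤ lhat τ (ringChar K) L' :=
    fun h => Subgroup.closure_mono fun g hg => ⟨h hg.1, hg.2⟩
  have : CharP ↥(F0 θ) (ringChar K) := inferInstance
  have hsplit : ∀ k, D.Lh τ k ⊓ τ.ker = ⊥ := fun k => by
    rcases TE6.o_cases k with rfl | rfl | rfl | rfl
    · refine le_bot_iff.1 (le_trans (inf_le_inf_right _ (mono hL1)) ?_)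
      rw [lhat_inf_ker_of_sl2 E G1 i1]
    · refine le_bot_iff.1 (le_trans (inf_le_inf_right _ (mono hL3)) ?_)
      rw [lhat_inf_ker_of_sl2 E G3 i3]
    · refine le_bot_iff.1 (le_trans (inf_le_inf_right _ (mono hL2)) ?_)
      rw [lhat_inf_ker_of_sl2 E G2 i2]
    · refine le_bot_iff.1 (le_trans (inf_le_inf_right _ (mono hL0)) ?_)
      rw [lhat_inf_ker_of_sl2 E G0 i0]
  -- the fundamental tori
  let u1 : (↥(F0 θ))ˣ →* ↥(twistedE6 K q) := (G1.comp (diagHom ↥(F0 θ)))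
  let u3 : (↥(F0 θ))ˣ →* ↥(twistedE6 K q) := (G3.comp (diagHom ↥(F0 θ)))
  let u2 : Kˣ →* ↥(twistedE6 K q) := (G2.comp (diagHom K))
  let u0 : Kˣ →* ↥(twistedE6 K q) := (G0.comp (diagHom K))
  have hHd : ∀ {k : Fin orbGraphE6.no} {g : ↥(twistedE6 K q)},
      g ∈ Hg (twist θ) (twistedE6 K q) ⊓ (Xg (orbits θ) (twistedE6 K q) k ⊔ Xng P k) →
      (g : GL chevE6.Idx K) ∈ chevE6.diagonalSubgroup K := fun hg =>
    (Subgroup.mem_inf.1 (Subgroup.mem_subgroupOf.1 (Subgroup.mem_inf.1 hg).1)).2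
  have hle1 : Hg (twist θ) (twistedE6 K q) ⊓ (Xg (orbits θ) (twistedE6 K q) ⟨0, by decide +kernel⟩ ⊔
      Xng P ⟨0, by decide +kernel⟩) ≤ u1.range := fun g hg => by
    obtain ⟨x, rfl⟩ := hL1 (Subgroup.mem_inf.1 hg).2
    obtain ⟨a, rfl⟩ := fS_diag θ w0 (hHd hg)
    exact ⟨a, rfl⟩
  have hle3 : Hg (twist θ) (twistedE6 K q) ⊓ (Xg (orbits θ) (twistedE6 K q) ⟨1, by decide +kernel⟩ ⊔
      Xng P ⟨1, by decide +kernel⟩) ≤ u3.range := fun g hg => by
    obtain ⟨x, rfl⟩ := hL3 (Subgroup.mem_inf.1 hg).2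
    obtain ⟨a, rfl⟩ := fS_diag θ w1 (hHd hg)
    exact ⟨a, rfl⟩
  have hle2 : Hg (twist θ) (twistedE6 K q) ⊓ (Xg (orbits θ) (twistedE6 K q) ⟨2, by decide +kernel⟩ ⊔
      Xng P ⟨2, by decide +kernel⟩) ≤ u2.range := fun g hg => by
    obtain ⟨x, rfl⟩ := hL2 (Subgroup.mem_inf.1 hg).2
    obtain ⟨a, rfl⟩ := fP_diag θ orth24 w2 (by decide +kernel) (hHd hg)
    exact ⟨a, rfl⟩
  have hle0 : Hg (twist θ) (twistedE6 K q) ⊓ (Xg (orbits θ) (twistedE6 K q) ⟨3, by decide +kernel⟩ ⊔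
      Xng P ⟨3, by decide +kernel⟩) ≤ u0.range := fun g hg => by
    obtain ⟨x, rfl⟩ := hL0 (Subgroup.mem_inf.1 hg).2
    obtain ⟨a, rfl⟩ := fP_diag θ orth05 w3 (by decide +kernel) (hHd hg)
    exact ⟨a, rfl⟩
  have hHrange : ∀ (g : ↥(twistedE6 K q)) (k : Fin orbGraphE6.no) (l : Subgroup ↥(twistedE6 K q)),
      g ∈ l → l ≤ Xg (orbits θ) (twistedE6 K q) k ⊔ Xng P k → (g : GL chevE6.Idx K) ∈ chevE6.diagonalSubgroup K →
      g ∈ ⨆ i, D.H ⊓ (D.X i ⊔ D.Xn i) := fun g k l hg hl hd =>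
    Subgroup.mem_iSup_of_mem k (Subgroup.mem_inf.2
      ⟨Subgroup.mem_subgroupOf.2 (Subgroup.mem_inf.2 ⟨P.le g.2, hd⟩), hl hg⟩)
  have hgen : D.H ≤ ⨆ i, D.H ⊓ (D.X i ⊔ D.Xn i) := by
    intro g hg
    have hg' := Subgroup.mem_inf.1 (Subgroup.mem_subgroupOf.1 hg)
    obtain ⟨c, hc, hcf⟩ := (twist θ).exists_fixed_tor_two (Subgroup.mem_inf.2 hg') (TE6.σT_two θ h2)
      fun z hz => TE6.ker_cube hz
    obtain ⟨f1, f3, -, -⟩ := TE6.fixed_params θ hcf
    rw [TE6.eq_par θ hcf, torθ_par_split] at hc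
    let a : (↥(F0 θ))ˣ := Units.mk0 ⟨c (nd 1), f1⟩ fun e => (c (nd 1)).ne_zero (congrArg Subtype.val e)
    let b : (↥(F0 θ))ˣ := Units.mk0 ⟨c (nd 3), f3⟩ fun e => (c (nd 3)).ne_zero (congrArg Subtype.val e)
    have ha : Units.map (F0 θ).subtype.toMonoidHom a = c (nd 1) := Units.ext rfl
    have hb : Units.map (F0 θ).subtype.toMonoidHom b = c (nd 3) := Units.ext rfl
    have e1 : (g1 θ (SLUniv.dg a)) = C.G.torθ (Pi.mulSingle (nd 1) (c (nd 1))) := by rw [fS_dg, ha]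
    have e3 : (g3 θ (SLUniv.dg b)) = C.G.torθ (Pi.mulSingle (nd 3) (c (nd 3))) := by rw [fS_dg, hb]
    have e2 : g2 θ (SLUniv.dg (c (nd 2))) = C.G.torθ (Pi.mulSingle (nd 2) (c (nd 2)) *
        Pi.mulSingle (nd 4) (Units.map θ.toMonoidHom (c (nd 2)))) := by
      rw [fP_dg, map_mul, C.G.torθ_single, C.G.torθ_single]
    have e0 : g0 θ (SLUniv.dg (c (nd 0))) = C.G.torθ (Pi.mulSingle (nd 0) (c (nd 0)) *
        Pi.mulSingle (nd 5) (Units.map θ.toMonoidHom (c (nd 0)))) := by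
      rw [fP_dg, map_mul, C.G.torθ_single, C.G.torθ_single]
    rw [show g = G1 (SLUniv.dg a) * G3 (SLUniv.dg b) * G2 (SLUniv.dg (c (nd 2))) * G0 (SLUniv.dg (c (nd 0))) from
      Subtype.ext (hc.trans (by rw [← e1, ← e3, ← e2, ← e0]; rfl))]
    have hx : ∀ (k : Fin orbGraphE6.no) {v : GL chevE6.Idx K} (hv : v ∈ twistedE6 K q),
        v ∈ (Uinv C.G ((orbits θ).wO k) : Subgroup (GL chevE6.Idx K)) →
        (⟨v, hv⟩ : ↥(twistedE6 K q)) ∈ Xg (orbits θ) (twistedE6 K q) k := fun k v hv hv' =>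
      Subgroup.mem_subgroupOf.2 (Subgroup.mem_inf.2 ⟨P.le hv, hv'⟩)
    refine mul_mem (mul_mem (mul_mem ?_ ?_) ?_) ?_
    · refine hHrange _ ⟨0, by decide +kernel⟩ G1.range ⟨_, rfl⟩ (range_le θ P G1 _
        (fun t => hx _ _ ?_) (hL1 (nE_mem P _)) (fS_nperm θ w0) fun x => fS_diag θ w0) ?_
      · simp only [fS_upper, s1]; exact TE6.xu_mem_Uinv θ (a := rt 46) rfl _
      · show g1 θ (SLUniv.dg a) ∈ _
        rw [e1]; exact tor_mem _
    · refine hHrange _ ⟨1, by decide +kernel⟩ G3.range ⟨_, rfl⟩ (range_le θ P G3 _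
        (fun t => hx _ _ ?_) (hL3 (nE_mem P _)) (fS_nperm θ w1) fun x => fS_diag θ w1) ?_
      · simp only [fS_upper, s3]; exact TE6.xu_mem_Uinv θ (a := rt 39) rfl _
      · show g3 θ (SLUniv.dg b) ∈ _
        rw [e3]; exact tor_mem _
    · refine hHrange _ ⟨2, by decide +kernel⟩ G2.range ⟨_, rfl⟩ (range_le θ P G2 _
        (fun t => hx _ _ ?_) (hL2 (nE_mem P _)) (fP_nperm θ orth24 w2)
          fun x => fP_diag θ orth24 w2 (by decide +kernel)) ?_
      · simp only [fP_upper, s2, s4]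
        exact TE6.x2_mem_Uinv θ (a := rt 42) (b := rt 37) rfl t
      · show g2 θ (SLUniv.dg (c (nd 2))) ∈ _
        rw [e2]; exact tor_mem _
    · refine hHrange _ ⟨3, by decide +kernel⟩ G0.range ⟨_, rfl⟩ (range_le θ P G0 _
        (fun t => hx _ _ ?_) (hL0 (nE_mem P _)) (fP_nperm θ orth05 w3)
          fun x => fP_diag θ orth05 w3 (by decide +kernel)) ?_
      · simp only [fP_upper, s0, s5]
        exact TE6.x2_mem_Uinv θ (a := rt 56) (b := rt 36) rfl t
      · show g0 θ (SLUniv.dg (c (nd 0))) ∈ _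
        rw [e0]; exact tor_mem _
  have hdvd := D.card_ker_dvd E hsplit hτ hgen
  have hH' : Nat.gcd 3 (q + 1) * Nat.card ↥D.H = (q - 1) ^ 2 * (q ^ 2 - 1) ^ 2 := by
    have e : chevE6.diagonalSubgroup K ⊓ twistedE6 K q = (twist θ).Fix ⊓ chevE6.diagonalSubgroup K := by
      rw [P.eq_Fix, inf_comm]
    rw [e] at hH
    rw [← hH]
    congr 1
    exact Nat.card_congr (Subgroup.subgroupOfEquivOfLe (P.H_le)).toEquiv
  have hcF : Nat.card (↥(F0 θ))ˣ = q - 1 := by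
    have h : Nat.card ↥(F0 θ) = q := by
      rw [← Frob.card_fixed hq hK]
      refine Nat.card_congr (Equiv.subtypeEquivRight fun x => ?_)
      show θ x = x ↔ _
      rw [hθ]
    rw [Nat.card_units, h]
  have hcK : Nat.card Kˣ = q ^ 2 - 1 := by rw [Nat.card_units, Nat.card_eq_fintype_card, hK]
  have hprod : ∏ i, Nat.card ↥(D.H ⊓ (D.X i ⊔ D.Xn i)) ∣ (q - 1) ^ 2 * (q ^ 2 - 1) ^ 2 := by
    refine (Finset.prod_dvd_prod_of_dvd _ (fun k : Fin orbGraphE6.no => if k.val < 2 then q - 1 else q ^ 2 - 1)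
      fun k _ => ?_).trans (dvd_of_eq ?_)
    · rcases TE6.o_cases k with rfl | rfl | rfl | rfl
      · rw [if_pos (by norm_num), ← hcF]
        exact (Subgroup.card_dvd_of_le hle1).trans (Subgroup.card_range_dvd u1)
      · rw [if_pos (by norm_num), ← hcF]
        exact (Subgroup.card_dvd_of_le hle3).trans (Subgroup.card_range_dvd u3)
      · rw [if_neg (by norm_num), ← hcK]
        exact (Subgroup.card_dvd_of_le hle2).trans (Subgroup.card_range_dvd u2)
      · rw [if_neg (by norm_num), ← hcK]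
        exact (Subgroup.card_dvd_of_le hle0).trans (Subgroup.card_range_dvd u0)
    · rw [← Fintype.prod_equiv (finCongr hno) (fun k : Fin 4 => if k.val < 2 then q - 1 else q ^ 2 - 1) _
        (fun k => rfl), Fin.prod_univ_four]
      norm_num
      ring
  have hpos : 0 < Nat.card ↥D.H := Nat.card_pos
  refine Nat.dvd_of_mul_dvd_mul_right hpos ((hdvd.trans hprod).trans (dvd_of_eq hH'.symm))

end CfsgLib.Lie.Mult.TE6Prime
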