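import Cfsg.Agent.Lib.Lie.Chev.Tw.Sub.E6
import Cfsg.Agent.Lib.Lie.Chev.Cent

/-!
# The torus of `²E₆(q)` on the roots

A torus element is given by exponents at the nodes; its weight on a root is a pair `(x, y)`, standing
for the character `u ↦ u ^ x * θ u ^ y`.
-/

set_option autoImplicit false
set_option maxRecDepth 100000
set_option maxHeartbeats 400000
set_option linter.unusedSectionVars false

namespace CfsgLib.Lie.Mult.TE6Tor

open Cfsg.Lie CfsgLib.Lie.Chev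
open scoped MatrixGroups
open TE6 (C rt nd twist)
open TwSub.E6 (pf ef)

/-- exponents at the first, third, second and fourth node -/
abbrev Vec := (ℤ × ℤ) × (ℤ × ℤ) × ℤ × ℤ

/-- the exponents at all nodes -/
def zexp (v : Vec) (i : Fin chevE6.rank) : ℤ × ℤ :=
  [v.1, (v.2.2.1, v.2.2.1), v.2.1, (v.2.2.2, v.2.2.2), v.2.1.swap, v.1.swap].getD i.val (0, 0)

/-- the weight on a root -/
noncomputable def chr (v : Vec) (r : Fin chevE6.nroots) : ℤ × ℤ := ∑ i, cart chevE6 i r • zexp v i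

/-- the elements in use -/
def vecs : List Vec :=
  [((-2, 0), (-2, -1), -1, -2), ((-1, 0), (-1, -2), -1, -2), ((0, 0), (0, 0), -1, 0), ((0, 0), (0, 0), -1, -1),
    ((-1, -1), (-1, -1), 0, -1), ((-1, 0), (-2, 0), -1, -1), ((0, 1), (1, 1), 1, 2), ((0, 0), (0, 0), 0, -1),
    ((1, 1), (1, 2), 1, 2), ((0, 0), (-1, -1), -1, -2), ((-1, 0), (0, 0), 0, 0), ((-1, 0), (0, -1), 0, -1)]

/-- a weight nontrivial for every `q ≥ 3` -/
def good (p : ℤ × ℤ) : Bool :=
  decide (p.1.natAbs + 3 * p.2.natAbs < 8) &&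
    ((p.2 == 0 && p.1 != 0) || decide (p.1.natAbs < 3 * p.2.natAbs))

theorem chr_swap : ∀ v ∈ vecs, ∀ r : Fin chevE6.nroots, chevE6.IsPosRoot r.val ∨ pf r = r →
    chr v (pf r) = (chr v r).swap := by decide +kernel

theorem zexp_node : ∀ v ∈ vecs, ∀ i : Fin chevE6.rank,
    zexp v i = if i = nd 4 then (zexp v (nd 2)).swap else if i = nd 5 then (zexp v (nd 0)).swap else zexp v i := by
  decide +kernel

theorem zexp_sym : ∀ v ∈ vecs, (zexp v (nd 1)).swap = zexp v (nd 1) ∧ (zexp v (nd 3)).swap = zexp v (nd 3) := by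
  decide +kernel

variable {K : Type*} [Field K] (θ : K ≃+* K)

/-- a monomial in `u` and `θ u` -/
noncomputable def mon (p : ℤ × ℤ) (u : Kˣ) : Kˣ := u ^ p.1 * Units.map θ.toMonoidHom u ^ p.2

theorem mon_add (p q : ℤ × ℤ) (u : Kˣ) : mon θ (p + q) u = mon θ p u * mon θ q u := by
  simp only [mon, Prod.fst_add, Prod.snd_add, zpow_add]
  exact mul_mul_mul_comm _ _ _ _

theorem mon_zero (u : Kˣ) : mon θ 0 u = 1 := by simp [mon]

theorem mon_smul (n : ℤ) (p : ℤ × ℤ) (u : Kˣ) : mon θ (n • p) u = mon θ p u ^ n := by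
  simp only [mon, Prod.smul_fst, Prod.smul_snd, smul_eq_mul, mul_zpow, ← zpow_mul]
  rw [mul_comm n, mul_comm n]

theorem mon_sum {ι : Type*} (s : Finset ι) (f : ι → ℤ × ℤ) (u : Kˣ) :
    mon θ (∑ i ∈ s, f i) u = ∏ i ∈ s, mon θ (f i) u := by
  classical
  induction s using Finset.induction with
  | empty => simp [mon_zero]
  | insert a s ha ih => rw [Finset.sum_insert ha, Finset.prod_insert ha, mon_add, ih]

/-- the torus element -/
noncomputable def tor (v : Vec) (u : Kˣ) : GL chevE6.Idx K := C.G.torθ fun i => mon θ (zexp v i) u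

theorem tor_xu (v : Vec) (u : Kˣ) (r : Fin chevE6.nroots) (t : K) :
    tor θ v u * C.G.xu r t * (tor θ v u)⁻¹ = C.G.xu r ((mon θ (chr v r) u : K) * t) := by
  rw [tor, C.G.torθ_conj_xu, chr, mon_sum]
  congr 3
  exact Units.ext (by simp only [mon_smul])

variable (h2 : ∀ t : K, θ (θ t) = t)
include h2

theorem map_mon (p : ℤ × ℤ) (u : Kˣ) : Units.map θ.toMonoidHom (mon θ p u) = mon θ p.swap u := by
  have e : Units.map θ.toMonoidHom (Units.map θ.toMonoidHom u) = u := Units.ext (h2 _)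
  simp only [mon, map_mul, map_zpow, e, Prod.fst_swap, Prod.snd_swap, mul_comm]

theorem θ_mon (p : ℤ × ℤ) (u : Kˣ) : θ ((mon θ p u : Kˣ) : K) = ((mon θ p.swap u : Kˣ) : K) :=
  congrArg Units.val (map_mon θ h2 p u)

theorem tor_mem {v : Vec} (hv : v ∈ vecs) (u : Kˣ) :
    tor θ v u ∈ (twist θ).Fix ⊓ chevE6.diagonalSubgroup K := by
  obtain ⟨s1, s3⟩ := zexp_sym v hv
  have e : (fun i => mon θ (zexp v i) u) = TE6.par θ (mon θ (zexp v (nd 1)) u) (mon θ (zexp v (nd 3)) u)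
      (mon θ (zexp v (nd 2)) u) (mon θ (zexp v (nd 0)) u) := by
    funext i
    obtain ⟨v1, v3, v2, v4, v0, v5⟩ := TE6.par_vals θ (mon θ (zexp v (nd 1)) u) (mon θ (zexp v (nd 3)) u)
      (mon θ (zexp v (nd 2)) u) (mon θ (zexp v (nd 0)) u)
    have hz := zexp_node v hv i
    rcases TE6.nd_cases i with rfl | rfl | rfl | rfl | rfl | rfl
    · rw [v0]
    · rw [v1]
    · rw [v2]
    · rw [v3]
    · rw [v4, map_mon θ h2, hz, if_pos rfl]
    · rw [v5, map_mon θ h2, hz, if_neg (by decide +kernel), if_pos rfl]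
  rw [tor, e]
  exact (twist θ).torθ_mem_Fix (TE6.par_fixed θ h2 (by rw [θ_mon θ h2, s1]) (by rw [θ_mon θ h2, s3]))

variable [Fintype K] {q : ℕ} (hθ : ∀ x, θ x = x ^ q) (hK : Fintype.card K = q ^ 2) (h3 : 3 ≤ q)
include hθ hK h3

omit h2 in
/-- a good weight is nontrivial -/
theorem exists_mon_ne {p : ℤ × ℤ} (hp : good p = true) : ∃ u : Kˣ, mon θ p u ≠ 1 := by
  obtain ⟨g, hg⟩ := IsCyclic.exists_generator (α := Kˣ)
  refine ⟨g, fun h => ?_⟩
  have e : Units.map θ.toMonoidHom g = g ^ (q : ℤ) := Units.ext (by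
    rw [zpow_natCast, Units.val_pow_eq_pow_val]; exact hθ _)
  have hord : orderOf g = q ^ 2 - 1 := by
    rw [orderOf_eq_card_of_forall_mem_zpowers hg, Nat.card_units, Nat.card_eq_fintype_card, hK]
  have hd : ((q ^ 2 - 1 : ℕ) : ℤ) ∣ p.1 + q * p.2 := by
    rw [← hord, orderOf_dvd_iff_zpow_eq_one, zpow_add, zpow_mul, ← e]
    exact h
  have h9 : 3 * q ≤ q ^ 2 := by nlinarith
  simp only [good, Bool.and_eq_true, decide_eq_true_eq, Bool.or_eq_true, beq_iff_eq, bne_iff_ne, ne_eq] at hp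
  obtain ⟨hlt, hnz⟩ := hp
  have hY : p.2.natAbs ≤ 2 := by omega
  have hq3 : (3 : ℤ) ≤ q := by exact_mod_cast h3
  have hb : |p.1 + q * p.2| < ((q ^ 2 - 1 : ℕ) : ℤ) := by
    refine (abs_add_le _ _).trans_lt ?_
    rw [abs_mul, Nat.abs_cast, Nat.cast_sub (by nlinarith), Nat.cast_pow, Nat.cast_one,
      Int.abs_eq_natAbs p.1, Int.abs_eq_natAbs p.2]
    have hl : (p.1.natAbs : ℤ) + 3 * p.2.natAbs ≤ 7 := by exact_mod_cast (by omega : _ ≤ 7)
    have hy : (p.2.natAbs : ℤ) ≤ 2 := by exact_mod_cast hY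
    nlinarith
  have h0 := Int.eq_zero_of_abs_lt_dvd hd hb
  rcases hnz with ⟨hy, hx⟩ | hxy
  · rw [hy, mul_zero, add_zero] at h0
    exact hx h0
  · have h1 : p.1.natAbs = q * p.2.natAbs := by
      have : p.1 = -((q : ℤ) * p.2) := by linarith
      rw [this, Int.natAbs_neg, Int.natAbs_mul, Int.natAbs_natCast]
    have := Nat.mul_le_mul_right p.2.natAbs h3
    omega

omit h3 in
/-- the norm is onto the fixed field -/
theorem exists_norm (hq : IsPrimePow q) {c : K} (hc : c ≠ 0) (hf : θ c = c) :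
    ∃ u : Kˣ, ((mon θ (1, 1) u : Kˣ) : K) = c := by
  obtain ⟨g, hg⟩ := IsCyclic.exists_generator (α := Kˣ)
  obtain ⟨n, hn⟩ := Subgroup.mem_zpowers_iff.1 (hg (Units.mk0 c hc))
  have e : ∀ x : Kˣ, Units.map θ.toMonoidHom x = x ^ (q : ℤ) := fun x => Units.ext (by
    rw [zpow_natCast, Units.val_pow_eq_pow_val]; exact hθ _)
  have hord : orderOf g = q ^ 2 - 1 := by
    rw [orderOf_eq_card_of_forall_mem_zpowers hg, Nat.card_units, Nat.card_eq_fintype_card, hK]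
  have h1 : g ^ (n * q) = g ^ n := by
    rw [zpow_mul, hn, ← e]
    exact Units.ext hf
  have h2' : ((q ^ 2 - 1 : ℕ) : ℤ) ∣ n * q - n := by
    rw [← hord, orderOf_dvd_iff_zpow_eq_one, zpow_sub, h1, mul_inv_cancel]
  have hq1 : 1 < q := hq.one_lt
  rw [Nat.cast_sub (Nat.one_le_pow _ _ (by omega)), Nat.cast_pow, Nat.cast_one,
    show n * (q : ℤ) - n = n * ((q : ℤ) - 1) by ring,
    show (q : ℤ) ^ 2 - 1 = ((q : ℤ) + 1) * ((q : ℤ) - 1) by ring] at h2'
  obtain ⟨k, hk⟩ := Int.dvd_of_mul_dvd_mul_right (by omega : ((q : ℤ) - 1) ≠ 0) h2'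
  refine ⟨g ^ k, ?_⟩
  rw [show mon θ (1, 1) (g ^ k) = g ^ n by
    rw [mon, e, zpow_one, zpow_one, ← zpow_mul, ← zpow_add, hk]; congr 1; ring, hn, Units.val_mk0]

end CfsgLib.Lie.Mult.TE6Tor
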